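import Mathlib
import Cfsg.Agent.ClassicalGeometry.AutPSL.Root

/-!
# ODD, D4, `K = L_n(2)`: linear algebra over the field of two elements
-/

set_option autoImplicit false
set_option linter.unusedSectionVars false

namespace Cfsg.Agent.OddHalf.D4.SLTwo

open Matrix Cfsg.Agent.ClassicalGeometry.AutPSL.Root

variable {ι F : Type*} [Fintype ι] [DecidableEq ι] [Field F]

/-- The field has two elements. -/
def Two (F : Type*) [Field F] : Prop := ∀ c : F, c = 0 ∨ c = 1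

theorem Two.one_add_one (h : Two F) : (1 : F) + 1 = 0 := by
  rcases h (1 + 1) with h1 | h1
  · exact h1
  · exfalso
    have h2 : (1 : F) = 0 := by
      have h3 : (1 : F) + 1 = 1 + 0 := by rw [h1, add_zero]
      exact add_left_cancel h3
    exact one_ne_zero h2

theorem Two.add_self (h : Two F) (c : F) : c + c = 0 := by
  have : c + c = c * (1 + 1) := by ring
  rw [this, h.one_add_one, mul_zero]

theorem Two.vadd_self (h : Two F) (v : ι → F) : v + v = 0 := by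
  ext i; exact h.add_self _

theorem Two.madd_self (h : Two F) (A : Matrix ι ι F) : A + A = 0 := by
  ext i j; exact h.add_self _

theorem Two.veq (h : Two F) {u v : ι → F} (huv : u + v = 0) : u = v := by
  have h1 : u + v + v = 0 + v := by rw [huv]
  rwa [add_assoc, h.vadd_self, add_zero, zero_add] at h1

theorem Two.meq (h : Two F) {A B : Matrix ι ι F} (huv : A + B = 0) : A = B := by
  have h1 : A + B + B = 0 + B := by rw [huv]
  rwa [add_assoc, h.madd_self, add_zero, zero_add] at h1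

theorem Two.ne_zero (h : Two F) {c : F} (hc : c ≠ 0) : c = 1 := (h c).resolve_left hc

/-- An invertible matrix over the field of two elements as an element of `SL`. -/
theorem Two.exists_sl (h : Two F) {A B : Matrix ι ι F} (hAB : A * B = 1) :
    ∃ g : Matrix.SpecialLinearGroup ι F, (g : Matrix ι ι F) = A := by
  have h1 : A.det * B.det = 1 := by rw [← det_mul, hAB, det_one]
  have h2 : A.det ≠ 0 := left_ne_zero_of_mul_eq_one h1
  exact ⟨⟨A, h.ne_zero h2⟩, rfl⟩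

theorem mul_inv_val (x : Matrix.SpecialLinearGroup ι F) : (x : Matrix ι ι F) * ((x⁻¹ : Matrix.SpecialLinearGroup ι F) : Matrix ι ι F) = 1 := by
  rw [← Matrix.SpecialLinearGroup.coe_mul, mul_inv_cancel, Matrix.SpecialLinearGroup.coe_one]

theorem inv_mul_val (x : Matrix.SpecialLinearGroup ι F) : ((x⁻¹ : Matrix.SpecialLinearGroup ι F) : Matrix ι ι F) * (x : Matrix ι ι F) = 1 := by
  rw [← Matrix.SpecialLinearGroup.coe_mul, inv_mul_cancel, Matrix.SpecialLinearGroup.coe_one]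

theorem conj_tr_aux (x : Matrix.SpecialLinearGroup ι F) {v f : ι → F} (h : f ⬝ᵥ v = 0) :
    (f ᵥ* ((x⁻¹ : Matrix.SpecialLinearGroup ι F) : Matrix ι ι F)) ⬝ᵥ ((x : Matrix ι ι F) *ᵥ v) = 0 := by
  rw [← dotProduct_mulVec, mulVec_mulVec, inv_mul_val, one_mulVec, h]

/-- Conjugates of transvections. -/
theorem conj_tr (x : Matrix.SpecialLinearGroup ι F) (v f : ι → F) (h : f ⬝ᵥ v = 0) :
    x * tr v f h * x⁻¹ = tr ((x : Matrix ι ι F) *ᵥ v) (f ᵥ* ((x⁻¹ : Matrix.SpecialLinearGroup ι F) : Matrix ι ι F))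
      (conj_tr_aux x h) := by
  apply Subtype.ext
  rw [Matrix.SpecialLinearGroup.coe_mul, Matrix.SpecialLinearGroup.coe_mul, coe_tr, coe_tr, mul_add, mul_one, add_mul, mul_inv_val,
    mul_vecMulVec, vecMulVec_mul]

theorem tr_congr {v v' f f' : ι → F} (h : f ⬝ᵥ v = 0) (h' : f' ⬝ᵥ v' = 0) (hv : v = v') (hf : f = f') :
    tr v f h = tr v' f' h' := by
  subst hv; subst hf; rfl

theorem tr_zero_right (v : ι → F) (h : (0 : ι → F) ⬝ᵥ v = 0) : tr v 0 h = 1 := by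
  apply Subtype.ext
  rw [coe_tr]; simp

theorem Two.tr_inv (hF : Two F) (v f : ι → F) (h : f ⬝ᵥ v = 0) : (tr v f h)⁻¹ = tr v f h := by
  rw [inv_eq_iff_mul_eq_one, tr_mul_same_center]
  rw [tr_congr _ (by simp) rfl (hF.vadd_self f)]
  exact tr_zero_right v _

/-! ### Rank one and rank two matrices -/

theorem vmv_mulVec (a φ z : ι → F) : vecMulVec a φ *ᵥ z = (φ ⬝ᵥ z) • a := by
  rw [vecMulVec_mulVec, op_smul_eq_smul]

theorem vecMul_vmv (f a φ : ι → F) : f ᵥ* vecMulVec a φ = (f ⬝ᵥ a) • φ := by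
  rw [vecMul_vecMulVec]

theorem ext_mulVec {A B : Matrix ι ι F} (h : ∀ z, A *ᵥ z = B *ᵥ z) : A = B :=
  Matrix.mulVec_injective (funext h)

theorem ext_vecMul {A B : Matrix ι ι F} (h : ∀ f, f ᵥ* A = f ᵥ* B) : A = B := by
  apply Matrix.ext_iff_vecMul.mpr
  exact h

/-- A matrix killed by the functionals vanishing at `a` has rank one with image spanned by `a`. -/
theorem exists_vmv {a : ι → F} {B : Matrix ι ι F} (h : ∀ f : ι → F, f ⬝ᵥ a = 0 → f ᵥ* B = 0) :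
    ∃ φ, B = vecMulVec a φ := by
  by_cases ha : a = 0
  · refine ⟨0, ext_vecMul fun f => ?_⟩
    rw [vecMul_vmv, h f (by rw [ha, dotProduct_zero]), smul_zero]
  · obtain ⟨i, hi⟩ := Function.ne_iff.mp ha
    have hi' : a i ≠ 0 := hi
    let f0 : ι → F := Pi.single i (a i)⁻¹
    have hf0 : f0 ⬝ᵥ a = 1 := by
      show Pi.single i (a i)⁻¹ ⬝ᵥ a = 1
      rw [single_dotProduct, inv_mul_cancel₀ hi']
    refine ⟨f0 ᵥ* B, ext_vecMul fun f => ?_⟩
    rw [vecMul_vmv]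
    have h1 := h (f - (f ⬝ᵥ a) • f0) (by rw [sub_dotProduct, smul_dotProduct, hf0, smul_eq_mul, mul_one, sub_self])
    rw [sub_vecMul, smul_vecMul, sub_eq_zero] at h1
    exact h1

/-- The dual statement. -/
theorem exists_vmv' {α : ι → F} {B : Matrix ι ι F} (h : ∀ v : ι → F, α ⬝ᵥ v = 0 → B *ᵥ v = 0) :
    ∃ b, B = vecMulVec b α := by
  obtain ⟨φ, hφ⟩ := exists_vmv (a := α) (B := Bᵀ) (by
    intro f hf
    rw [vecMul_transpose]
    exact h f (by rw [dotProduct_comm]; exact hf))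
  refine ⟨φ, ?_⟩
  have h1 : Bᵀᵀ = (vecMulVec α φ)ᵀ := by rw [hφ]
  rw [transpose_transpose, transpose_vecMulVec] at h1
  exact h1

/-- A matrix killed by the functionals vanishing at `a` and `a'`; dual functionals are given. -/
theorem exists_vmv_two {a a' f1 f2 : ι → F} (h11 : f1 ⬝ᵥ a = 1) (h12 : f1 ⬝ᵥ a' = 0) (h21 : f2 ⬝ᵥ a = 0)
    (h22 : f2 ⬝ᵥ a' = 1) {B : Matrix ι ι F} (h : ∀ f : ι → F, f ⬝ᵥ a = 0 → f ⬝ᵥ a' = 0 → f ᵥ* B = 0) :
    B = vecMulVec a (f1 ᵥ* B) + vecMulVec a' (f2 ᵥ* B) := by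
  apply ext_vecMul
  intro f
  rw [vecMul_add, vecMul_vmv, vecMul_vmv]
  have h1 := h (f - (f ⬝ᵥ a) • f1 - (f ⬝ᵥ a') • f2) (by
    rw [sub_dotProduct, sub_dotProduct, smul_dotProduct, smul_dotProduct, h11, h21]; simp) (by
    rw [sub_dotProduct, sub_dotProduct, smul_dotProduct, smul_dotProduct, h12, h22]; simp)
  rw [sub_vecMul, sub_vecMul, smul_vecMul, smul_vecMul, sub_sub, sub_eq_zero] at h1
  exact h1

/-! ### The setting -/

/-- `Ω` has rank at least two. -/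
def R2 (Ω : Matrix ι ι F) : Prop := ∀ α : ι → F, ∃ v, α ⬝ᵥ v = 0 ∧ Ω *ᵥ v ≠ 0

/-- `Ω` has rank at least three. -/
def R3 (Ω : Matrix ι ι F) : Prop := ∀ α β : ι → F, ∃ v, α ⬝ᵥ v = 0 ∧ β ⬝ᵥ v = 0 ∧ Ω *ᵥ v ≠ 0

theorem R2.dual {Ω : Matrix ι ι F} (h : R2 Ω) (a : ι → F) : ∃ f, f ⬝ᵥ a = 0 ∧ f ᵥ* Ω ≠ 0 := by
  by_contra hcon
  push Not at hcon
  obtain ⟨φ, hφ⟩ := exists_vmv hcon
  obtain ⟨v, hv, hv'⟩ := h φ
  apply hv'
  rw [hφ, vmv_mulVec, hv, zero_smul]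

/-- `ξ` is a homomorphism from `V / ker Ω` to `im Ω`. -/
structure InE (Ω ξ : Matrix ι ι F) : Prop where
  ker : ∀ v, Ω *ᵥ v = 0 → ξ *ᵥ v = 0
  coker : ∀ f, f ᵥ* Ω = 0 → f ᵥ* ξ = 0

section InE

variable {Ω ξ : Matrix ι ι F} (h : InE Ω ξ) (hΩ : Ω * Ω = 0)

include h hΩ

theorem InE.mul_right : ξ * Ω = 0 := by
  apply ext_mulVec
  intro z
  rw [← mulVec_mulVec, zero_mulVec]
  apply h.ker
  rw [mulVec_mulVec, hΩ, zero_mulVec]

theorem InE.mul_left : Ω * ξ = 0 := by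
  apply ext_vecMul
  intro f
  rw [← vecMul_vecMul, vecMul_zero]
  apply h.coker
  rw [vecMul_vecMul, hΩ, vecMul_zero]

theorem InE.sq : ξ * ξ = 0 := by
  apply ext_mulVec
  intro z
  rw [← mulVec_mulVec, zero_mulVec]
  apply h.ker
  rw [mulVec_mulVec, h.mul_left hΩ, zero_mulVec]

end InE

/-- The subgroup `X` of `C(w)` is normalized by `C(w)` and contains no transvections. -/
structure XH (w : Matrix.SpecialLinearGroup ι F) (X : Subgroup (Matrix.SpecialLinearGroup ι F)) : Prop where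
  com : ∀ x ∈ X, x * w = w * x
  nor : ∀ g, g * w = w * g → ∀ x ∈ X, g * x * g⁻¹ ∈ X
  noTr : ∀ (v f : ι → F) (h : f ⬝ᵥ v = 0), tr v f h ∈ X → v = 0 ∨ f = 0

/-- `x` centralizes `w` and `C(w)` modulo `X`. -/
structure Act (w : Matrix.SpecialLinearGroup ι F) (X : Subgroup (Matrix.SpecialLinearGroup ι F)) (x : Matrix.SpecialLinearGroup ι F) :
    Prop where
  com : x * w = w * x
  act : ∀ g, g * w = w * g → x * g * x⁻¹ * g⁻¹ ∈ X

theorem XH.act {w : Matrix.SpecialLinearGroup ι F} {X : Subgroup (Matrix.SpecialLinearGroup ι F)} (h : XH w X)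
    {x : Matrix.SpecialLinearGroup ι F} (hx : x ∈ X) : Act w X x := by
  refine ⟨h.com x hx, fun g hg => ?_⟩
  have h1 := h.nor g hg _ (X.inv_mem hx)
  have e : x * g * x⁻¹ * g⁻¹ = x * (g * x⁻¹ * g⁻¹) := by group
  rw [e]
  exact X.mul_mem hx h1

section Setting

variable {w : Matrix.SpecialLinearGroup ι F} {Ω : Matrix ι ι F} {X : Subgroup (Matrix.SpecialLinearGroup ι F)}

theorem comm_iff (hw : (w : Matrix ι ι F) = 1 + Ω) (g : Matrix.SpecialLinearGroup ι F) :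
    g * w = w * g ↔ (g : Matrix ι ι F) * Ω = Ω * g := by
  constructor
  · intro h
    have h1 := congrArg (fun x : Matrix.SpecialLinearGroup ι F => (x : Matrix ι ι F)) h
    simp only [Matrix.SpecialLinearGroup.coe_mul, hw, mul_add, add_mul, mul_one, one_mul] at h1
    exact add_left_cancel h1
  · intro h
    apply Subtype.ext
    rw [Matrix.SpecialLinearGroup.coe_mul, Matrix.SpecialLinearGroup.coe_mul, hw, mul_add, add_mul, mul_one, one_mul, h]

theorem tr_comm (hw : (w : Matrix ι ι F) = 1 + Ω) {v f : ι → F} (h : f ⬝ᵥ v = 0) (hv : Ω *ᵥ v = 0)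
    (hf : f ᵥ* Ω = 0) : tr v f h * w = w * tr v f h := by
  rw [comm_iff hw, coe_tr, add_mul, mul_add, one_mul, mul_one, vecMulVec_mul, mul_vecMulVec, hv, hf]
  simp

/-- **(A)** -/
theorem fix_of_fix (hF : Two F) (hw : (w : Matrix ι ι F) = 1 + Ω) (hΩ : Ω * Ω = 0) (hX : XH w X)
    {x : Matrix.SpecialLinearGroup ι F} (hx : Act w X x) {z : ι → F} (hz : Ω *ᵥ z ≠ 0)
    (hxz : (x : Matrix ι ι F) *ᵥ (Ω *ᵥ z) = Ω *ᵥ z) :
    (∀ f, f ᵥ* Ω = 0 → f ᵥ* (x : Matrix ι ι F) = f) ∧ (∀ v, Ω *ᵥ v = 0 → (x : Matrix ι ι F) *ᵥ v = v) := by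
  have key : ∀ f, f ᵥ* Ω = 0 → f ᵥ* ((x⁻¹ : Matrix.SpecialLinearGroup ι F) : Matrix ι ι F) = f := by
    intro f hf
    have hfv : f ⬝ᵥ (Ω *ᵥ z) = 0 := by rw [dotProduct_mulVec, hf, zero_dotProduct]
    have hv : Ω *ᵥ (Ω *ᵥ z) = 0 := by rw [mulVec_mulVec, hΩ, zero_mulVec]
    have h1 := hx.act _ (tr_comm hw hfv hv hf)
    rw [conj_tr, hF.tr_inv] at h1
    have h3 : f ᵥ* ((x⁻¹ : Matrix.SpecialLinearGroup ι F) : Matrix ι ι F) ⬝ᵥ Ω *ᵥ z = 0 := by
      have := conj_tr_aux x hfv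
      rwa [hxz] at this
    rw [tr_congr (conj_tr_aux x hfv) h3 hxz rfl, tr_mul_same_center] at h1
    rcases hX.noTr _ _ _ h1 with h2 | h2
    · exact absurd h2 hz
    · exact hF.veq h2
  refine ⟨fun f hf => ?_, fun v hv => ?_⟩
  · calc f ᵥ* (x : Matrix ι ι F) = f ᵥ* ((x⁻¹ : Matrix.SpecialLinearGroup ι F) : Matrix ι ι F) ᵥ* (x : Matrix ι ι F) := by
          rw [key f hf]
      _ = f := by rw [vecMul_vecMul, inv_mul_val, vecMul_one]
  · obtain ⟨i, hi⟩ := Function.ne_iff.mp hz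
    let g : ι → F := Pi.single i 1
    have hg : g ᵥ* Ω ≠ 0 := by
      intro h1
      apply hi
      have h2 : g ⬝ᵥ (Ω *ᵥ z) = 0 := by rw [dotProduct_mulVec, h1, zero_dotProduct]
      have h3 : g ⬝ᵥ (Ω *ᵥ z) = (Ω *ᵥ z) i := by
        show Pi.single i 1 ⬝ᵥ (Ω *ᵥ z) = _
        rw [single_dotProduct, one_mul]
      rw [← h3, h2]; rfl
    have hf : (g ᵥ* Ω) ᵥ* Ω = 0 := by rw [vecMul_vecMul, hΩ, vecMul_zero]
    have hfv : (g ᵥ* Ω) ⬝ᵥ v = 0 := by rw [← dotProduct_mulVec, hv, dotProduct_zero]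
    have h1 := hx.act _ (tr_comm hw hfv hv hf)
    rw [conj_tr, hF.tr_inv] at h1
    have h3 : (g ᵥ* Ω) ⬝ᵥ ((x : Matrix ι ι F) *ᵥ v) = 0 := by
      have := conj_tr_aux x hfv
      rwa [key _ hf] at this
    rw [tr_congr (conj_tr_aux x hfv) h3 rfl (key _ hf), tr_mul_same_axis] at h1
    rcases hX.noTr _ _ _ h1 with h2 | h2
    · exact hF.veq h2
    · exact absurd h2 hg

/-- An involution commuting with `w` fixes a vector of `im Ω`. -/
theorem exists_fix (hF : Two F) (hw : (w : Matrix ι ι F) = 1 + Ω) (h0 : Ω ≠ 0) {x : Matrix.SpecialLinearGroup ι F}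
    (hx : x * w = w * x) (hxx : x * x = 1) : ∃ z, Ω *ᵥ z ≠ 0 ∧ (x : Matrix ι ι F) *ᵥ (Ω *ᵥ z) = Ω *ᵥ z := by
  have h1 : (x : Matrix ι ι F) * Ω = Ω * x := (comm_iff hw x).mp hx
  have h2 : (x : Matrix ι ι F) * x = 1 := by rw [← Matrix.SpecialLinearGroup.coe_mul, hxx, Matrix.SpecialLinearGroup.coe_one]
  obtain ⟨z, hz⟩ : ∃ z, Ω *ᵥ z ≠ 0 := by
    by_contra hcon
    push Not at hcon
    exact h0 (ext_mulVec fun z => by rw [hcon z, zero_mulVec])
  by_cases h3 : (x : Matrix ι ι F) *ᵥ (Ω *ᵥ z) = Ω *ᵥ z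
  · exact ⟨z, hz, h3⟩
  · have h4 : Ω *ᵥ ((x : Matrix ι ι F) *ᵥ z) = (x : Matrix ι ι F) *ᵥ (Ω *ᵥ z) := by
      rw [mulVec_mulVec, mulVec_mulVec, h1]
    refine ⟨z + (x : Matrix ι ι F) *ᵥ z, ?_, ?_⟩
    · rw [mulVec_add, h4]
      intro h5
      exact h3 (hF.veq h5).symm
    · rw [mulVec_add, mulVec_add, h4, mulVec_mulVec _ (x : Matrix ι ι F) (x : Matrix ι ι F), h2, one_mulVec, add_comm]

/-- An element satisfying the conclusion of (A). -/
theorem inE_of_fix (hF : Two F) {x ξ : Matrix ι ι F} (hx : x = 1 + ξ)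
    (h : (∀ f, f ᵥ* Ω = 0 → f ᵥ* x = f) ∧ (∀ v, Ω *ᵥ v = 0 → x *ᵥ v = v)) : InE Ω ξ := by
  refine ⟨fun v hv => ?_, fun f hf => ?_⟩
  · have h1 := h.2 v hv
    rw [hx, add_mulVec, one_mulVec] at h1
    exact add_eq_left.mp h1
  · have h1 := h.1 f hf
    rw [hx, vecMul_add, vecMul_one] at h1
    exact add_eq_left.mp h1

end Setting

end Cfsg.Agent.OddHalf.D4.SLTwo
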