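import Mathlib
import Cfsg.Agent.OddHalf.D4.SLTwo.Lin

/-!
# ODD, D4, `K = L_n(2)`: the analysis of an involution `x` with `[C(w), x] ≤ X`

`main`: `w ∈ X` and `rank Ω = 2`, or `x` is one of `1`, `w`, a transvection, `w` times a transvection.
-/

set_option autoImplicit false
set_option linter.unusedSectionVars false

namespace Cfsg.Agent.OddHalf.D4.SLTwo

open Matrix Cfsg.Agent.ClassicalGeometry.AutPSL.Root

variable {ι F : Type*} [Fintype ι] [DecidableEq ι] [Field F]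

theorem mul_vmv (A : Matrix ι ι F) (a φ : ι → F) : A * vecMulVec a φ = vecMulVec (A *ᵥ a) φ := mul_vecMulVec _ _ _

theorem vmv_mul (A : Matrix ι ι F) (a φ : ι → F) : vecMulVec a φ * A = vecMulVec a (φ ᵥ* A) := vecMulVec_mul _ _ _

theorem vmv_vmv (a φ b ψ : ι → F) : vecMulVec a φ * vecMulVec b ψ = (φ ⬝ᵥ b) • vecMulVec a ψ := by
  rw [mul_vmv, vmv_mulVec, smul_vecMulVec]

/-- The elements `1 + v ⊗ fΩ + Ωv ⊗ f`. -/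
theorem exists_g (hF : Two F) {Ω : Matrix ι ι F} (hΩ : Ω * Ω = 0) {v f : ι → F} (h : f ⬝ᵥ (Ω *ᵥ v) = 0) :
    ∃ g : Matrix.SpecialLinearGroup ι F,
      (g : Matrix ι ι F) = 1 + (vecMulVec v (f ᵥ* Ω) + vecMulVec (Ω *ᵥ v) f) := by
  set N : Matrix ι ι F := vecMulVec v (f ᵥ* Ω) + vecMulVec (Ω *ᵥ v) f with hN
  have h1 : (f ᵥ* Ω) ⬝ᵥ v = 0 := by rw [← dotProduct_mulVec]; exact h
  have h2 : (f ᵥ* Ω) ⬝ᵥ (Ω *ᵥ v) = 0 := by rw [dotProduct_mulVec, vecMul_vecMul, hΩ]; simp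
  have hNN : N * N = (f ⬝ᵥ v) • vecMulVec (Ω *ᵥ v) (f ᵥ* Ω) := by
    rw [hN, mul_add, add_mul, add_mul, vmv_vmv, vmv_vmv, vmv_vmv, vmv_vmv, h1, h2, h]
    simp
  have hNNN : N * N * N = 0 := by
    rw [hNN, hN, smul_mul_assoc, mul_add, vmv_vmv, vmv_vmv, h1, h2]
    simp
  apply hF.exists_sl (B := 1 + (N + N * N))
  have e : (1 + N) * (1 + (N + N * N)) = 1 + (N + N) + (N * N + N * N) + N * N * N := by
    noncomm_ring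
  rw [e, hF.madd_self, hF.madd_self, hNNN, add_zero, add_zero, add_zero]

section Setting

variable {w : Matrix.SpecialLinearGroup ι F} {Ω ξ : Matrix ι ι F} {X : Subgroup (Matrix.SpecialLinearGroup ι F)}

/-- **(B)** the commutator of `x = 1 + ξ` with the elements of `exists_g`. -/
theorem exists_comm (hF : Two F) (hw : (w : Matrix ι ι F) = 1 + Ω) (hΩ : Ω * Ω = 0)
    {x : Matrix.SpecialLinearGroup ι F} (hx : Act w X x) (hxξ : (x : Matrix ι ι F) = 1 + ξ) (hE : InE Ω ξ)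
    {v f : ι → F} (h : f ⬝ᵥ (Ω *ᵥ v) = 0) :
    ∃ c ∈ X, (c : Matrix ι ι F) = 1 + (vecMulVec (Ω *ᵥ v) (f ᵥ* ξ + (f ⬝ᵥ (ξ *ᵥ v)) • (f ᵥ* Ω)) +
      vecMulVec (ξ *ᵥ v) (f ᵥ* Ω)) := by
  obtain ⟨g, hg⟩ := exists_g hF hΩ h
  have hgw : g * w = w * g := by
    rw [comm_iff hw, hg, add_mul, mul_add, one_mul, mul_one, add_mul, mul_add, vmv_mul, vmv_mul, mul_vmv, mul_vmv,
      vecMul_vecMul, hΩ, mulVec_mulVec, hΩ]
    simp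
  have h1 := X.inv_mem (hx.act g hgw)
  refine ⟨_, h1, ?_⟩
  set η : Matrix ι ι F := vecMulVec (Ω *ᵥ v) (f ᵥ* ξ + (f ⬝ᵥ (ξ *ᵥ v)) • (f ᵥ* Ω)) +
      vecMulVec (ξ *ᵥ v) (f ᵥ* Ω) with hη
  set c := (x * g * x⁻¹ * g⁻¹)⁻¹ with hc
  have h2 : c * (x * g) = g * x := by rw [hc]; group
  have h3 : (c : Matrix ι ι F) * ((x : Matrix ι ι F) * g) = g * x := by
    have := congrArg (fun y : Matrix.SpecialLinearGroup ι F => (y : Matrix ι ι F)) h2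
    simpa only [Matrix.SpecialLinearGroup.coe_mul] using this
  have hξξ := hE.sq hΩ
  have hξΩ := hE.mul_right hΩ
  have hΩξ := hE.mul_left hΩ
  set b := f ⬝ᵥ (ξ *ᵥ v) with hb
  have d1 : (f ᵥ* ξ) ⬝ᵥ v = b := by rw [← dotProduct_mulVec]
  have d2 : (f ᵥ* Ω) ⬝ᵥ v = 0 := by rw [← dotProduct_mulVec]; exact h
  have d3 : (f ᵥ* ξ) ⬝ᵥ (Ω *ᵥ v) = 0 := by rw [dotProduct_mulVec, vecMul_vecMul, hξΩ]; simp
  have d4 : (f ᵥ* Ω) ⬝ᵥ (Ω *ᵥ v) = 0 := by rw [dotProduct_mulVec, vecMul_vecMul, hΩ]; simp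
  -- the identity
  have h4 : (1 + η) * ((x : Matrix ι ι F) * g) = g * x := by
    have a1 : η * ξ = 0 := by
      rw [hη, add_mul, vmv_mul, vmv_mul, add_vecMul, vecMul_vecMul, hξξ, smul_vecMul, vecMul_vecMul, hΩξ]
      simp
    have a2 : η * (vecMulVec v (f ᵥ* Ω) + vecMulVec (Ω *ᵥ v) f) = b • vecMulVec (Ω *ᵥ v) (f ᵥ* Ω) := by
      rw [hη, add_mul, mul_add, mul_add, vmv_vmv, vmv_vmv, vmv_vmv, vmv_vmv, add_dotProduct, add_dotProduct,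
        smul_dotProduct, smul_dotProduct, d1, d2, d3, d4]
      simp
    have a3 : ξ * (vecMulVec v (f ᵥ* Ω) + vecMulVec (Ω *ᵥ v) f) = vecMulVec (ξ *ᵥ v) (f ᵥ* Ω) := by
      rw [mul_add, mul_vmv, mul_vmv, mulVec_mulVec, hξΩ]
      simp
    have a4 : (vecMulVec v (f ᵥ* Ω) + vecMulVec (Ω *ᵥ v) f) * ξ = vecMulVec (Ω *ᵥ v) (f ᵥ* ξ) := by
      rw [add_mul, vmv_mul, vmv_mul, vecMul_vecMul, hΩξ]
      simp
    set N : Matrix ι ι F := vecMulVec v (f ᵥ* Ω) + vecMulVec (Ω *ᵥ v) f with hN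
    rw [hxξ, hg]
    have e1 : (1 + η) * ((1 + ξ) * (1 + N)) = 1 + N + ξ + (ξ * N) + η + (η * ξ) + η * N + (η * ξ) * N := by
      noncomm_ring
    have e2 : (1 + N) * (1 + ξ) = 1 + N + ξ + N * ξ := by noncomm_ring
    rw [e1, e2, a1, a2, a3, a4, zero_mul, add_zero, add_zero]
    have e3 : η = vecMulVec (Ω *ᵥ v) (f ᵥ* ξ) + b • vecMulVec (Ω *ᵥ v) (f ᵥ* Ω) + vecMulVec (ξ *ᵥ v) (f ᵥ* Ω) := by
      rw [hη, vecMulVec_add, vecMulVec_smul]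
    rw [e3]
    have e4 := hF.madd_self (vecMulVec (ξ *ᵥ v) (f ᵥ* Ω))
    have e5 := hF.madd_self (b • vecMulVec (Ω *ᵥ v) (f ᵥ* Ω))
    calc 1 + N + ξ + vecMulVec (ξ *ᵥ v) (f ᵥ* Ω) + (vecMulVec (Ω *ᵥ v) (f ᵥ* ξ) + b • vecMulVec (Ω *ᵥ v) (f ᵥ* Ω) +
          vecMulVec (ξ *ᵥ v) (f ᵥ* Ω)) + b • vecMulVec (Ω *ᵥ v) (f ᵥ* Ω)
        = 1 + N + ξ + vecMulVec (Ω *ᵥ v) (f ᵥ* ξ) + (vecMulVec (ξ *ᵥ v) (f ᵥ* Ω) + vecMulVec (ξ *ᵥ v) (f ᵥ* Ω)) +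
          (b • vecMulVec (Ω *ᵥ v) (f ᵥ* Ω) + b • vecMulVec (Ω *ᵥ v) (f ᵥ* Ω)) := by abel
      _ = 1 + N + ξ + vecMulVec (Ω *ᵥ v) (f ᵥ* ξ) := by rw [e4, e5, add_zero, add_zero]
  have h5 : (c : Matrix ι ι F) * ((x : Matrix ι ι F) * g) = (1 + η) * ((x : Matrix ι ι F) * g) := by rw [h3, h4]
  have h6 : ((x : Matrix ι ι F) * g) * (((x * g)⁻¹ : Matrix.SpecialLinearGroup ι F) : Matrix ι ι F) = 1 := by
    rw [← Matrix.SpecialLinearGroup.coe_mul]; exact mul_inv_val _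
  calc (c : Matrix ι ι F) = (c : Matrix ι ι F) * (((x : Matrix ι ι F) * g) *
        (((x * g)⁻¹ : Matrix.SpecialLinearGroup ι F) : Matrix ι ι F)) := by rw [h6, mul_one]
    _ = ((c : Matrix ι ι F) * ((x : Matrix ι ι F) * g)) *
        (((x * g)⁻¹ : Matrix.SpecialLinearGroup ι F) : Matrix ι ι F) := (mul_assoc _ _ _).symm
    _ = 1 + η := by rw [h5, mul_assoc (1 + η), h6, mul_one]

/-- An element of `X` of the form `1 + a ⊗ φ`. -/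
theorem XH.noTr' (hX : XH w X) (hw1 : (w : Matrix ι ι F) = 1 + Ω) {c : Matrix.SpecialLinearGroup ι F} (hc : c ∈ X) {a φ : ι → F}
    (hca : (c : Matrix ι ι F) = 1 + vecMulVec a φ) (h : φ ⬝ᵥ a = 0) : a = 0 ∨ φ = 0 := by
  apply hX.noTr a φ h
  have : tr a φ h = c := Subtype.ext (by rw [coe_tr, hca])
  rw [this]; exact hc

/-- **(B1)** -/
theorem b_one (hF : Two F) (hw : (w : Matrix ι ι F) = 1 + Ω) (hΩ : Ω * Ω = 0) (hX : XH w X)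
    {x : Matrix.SpecialLinearGroup ι F} (hx : Act w X x) (hxξ : (x : Matrix ι ι F) = 1 + ξ) (hE : InE Ω ξ)
    {v : ι → F} (hv : Ω *ᵥ v ≠ 0) (h : ξ *ᵥ v = Ω *ᵥ v) : ∃ φ, ξ = Ω + vecMulVec (Ω *ᵥ v) φ := by
  obtain ⟨φ, hφ⟩ := exists_vmv (a := Ω *ᵥ v) (B := Ω + ξ) (by
    intro f hf
    obtain ⟨c, hc, hc1⟩ := exists_comm hF hw hΩ hx hxξ hE hf
    rw [h, hf, zero_smul, add_zero, ← vecMulVec_add] at hc1
    have d3 : (f ᵥ* ξ + f ᵥ* Ω) ⬝ᵥ (Ω *ᵥ v) = 0 := by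
      rw [← vecMul_add, dotProduct_mulVec, vecMul_vecMul, add_mul, hE.mul_right hΩ, hΩ]; simp
    rcases hX.noTr' hw hc hc1 d3 with h1 | h1
    · exact absurd h1 hv
    · rw [vecMul_add, add_comm]; exact h1)
  refine ⟨φ, ?_⟩
  have h1 : Ω + vecMulVec (Ω *ᵥ v) φ + ξ = 0 := by
    have e : Ω + (Ω + ξ) + ξ = (Ω + Ω) + (ξ + ξ) := by abel
    rw [← hφ, e, hF.madd_self, hF.madd_self, add_zero]
  exact (hF.meq h1).symm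

/-- **(B2)** -/
theorem b_two (hF : Two F) (hw : (w : Matrix ι ι F) = 1 + Ω) (hΩ : Ω * Ω = 0) (hX : XH w X)
    {x : Matrix.SpecialLinearGroup ι F} (hx : Act w X x) (hxξ : (x : Matrix ι ι F) = 1 + ξ) (hE : InE Ω ξ)
    {v : ι → F} (hv : Ω *ᵥ v ≠ 0) (h : ξ *ᵥ v = 0) : ∃ φ, ξ = vecMulVec (Ω *ᵥ v) φ := by
  apply exists_vmv
  intro f hf
  obtain ⟨c, hc, hc1⟩ := exists_comm hF hw hΩ hx hxξ hE hf
  rw [h, dotProduct_zero, zero_smul, add_zero, zero_vecMulVec, add_zero] at hc1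
  have d3 : (f ᵥ* ξ) ⬝ᵥ (Ω *ᵥ v) = 0 := by
    rw [dotProduct_mulVec, vecMul_vecMul, hE.mul_right hΩ]; simp
  rcases hX.noTr' hw hc hc1 d3 with h1 | h1
  · exact absurd h1 hv
  · exact h1

/-- **(B1')** -/
theorem b_one' (hF : Two F) (hw : (w : Matrix ι ι F) = 1 + Ω) (hΩ : Ω * Ω = 0) (hX : XH w X)
    {x : Matrix.SpecialLinearGroup ι F} (hx : Act w X x) (hxξ : (x : Matrix ι ι F) = 1 + ξ) (hE : InE Ω ξ)
    {f : ι → F} (hf : f ᵥ* Ω ≠ 0) (h : f ᵥ* ξ = f ᵥ* Ω) {v : ι → F} (hv : f ⬝ᵥ (Ω *ᵥ v) = 0) :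
    ξ *ᵥ v = Ω *ᵥ v := by
  obtain ⟨c, hc, hc1⟩ := exists_comm hF hw hΩ hx hxξ hE hv
  have h1 : f ⬝ᵥ (ξ *ᵥ v) = 0 := by rw [dotProduct_mulVec, h, ← dotProduct_mulVec]; exact hv
  rw [h1, zero_smul, add_zero, h, ← add_vecMulVec] at hc1
  have d3 : (f ᵥ* Ω) ⬝ᵥ (Ω *ᵥ v + ξ *ᵥ v) = 0 := by
    rw [← add_mulVec, dotProduct_mulVec, vecMul_vecMul, mul_add, hE.mul_left hΩ, hΩ]; simp
  rcases hX.noTr' hw hc hc1 d3 with h2 | h2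
  · exact (hF.veq h2).symm
  · exact absurd h2 hf

/-- **(B2')** -/
theorem b_two' (hF : Two F) (hw : (w : Matrix ι ι F) = 1 + Ω) (hΩ : Ω * Ω = 0) (hX : XH w X)
    {x : Matrix.SpecialLinearGroup ι F} (hx : Act w X x) (hxξ : (x : Matrix ι ι F) = 1 + ξ) (hE : InE Ω ξ)
    {f : ι → F} (hf : f ᵥ* Ω ≠ 0) (h : f ᵥ* ξ = 0) {v : ι → F} (hv : f ⬝ᵥ (Ω *ᵥ v) = 0) :
    ξ *ᵥ v = 0 := by
  obtain ⟨c, hc, hc1⟩ := exists_comm hF hw hΩ hx hxξ hE hv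
  have h1 : f ⬝ᵥ (ξ *ᵥ v) = 0 := by rw [dotProduct_mulVec, h, zero_dotProduct]
  rw [h1, zero_smul, add_zero, h, vecMulVec_zero, zero_add] at hc1
  have d3 : (f ᵥ* Ω) ⬝ᵥ (ξ *ᵥ v) = 0 := by
    rw [dotProduct_mulVec, vecMul_vecMul, hE.mul_left hΩ]; simp
  rcases hX.noTr' hw hc hc1 d3 with h2 | h2
  · exact h2
  · exact absurd h2 hf

/-- **(B3)**: the remaining case; `w ∈ X` and `Ω` has rank two. -/
theorem main (hF : Two F) (hw : (w : Matrix ι ι F) = 1 + Ω) (hΩ : Ω * Ω = 0) (hX : XH w X) (h2 : R2 Ω)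
    {x : Matrix.SpecialLinearGroup ι F} (hx : Act w X x) (hxξ : (x : Matrix ι ι F) = 1 + ξ) (hE : InE Ω ξ)
    (n1 : ∀ a φ, ξ ≠ vecMulVec a φ) (n2 : ∀ a φ, ξ ≠ Ω + vecMulVec a φ) :
    w ∈ X ∧ ∃ v z α β : ι → F, Ω = vecMulVec (Ω *ᵥ v) α + vecMulVec (Ω *ᵥ z) β ∧ α ⬝ᵥ v = 1 ∧ α ⬝ᵥ z = 0 ∧
      β ⬝ᵥ v = 0 ∧ β ⬝ᵥ z = 1 := by
  have h1 : ∀ v, Ω *ᵥ v ≠ 0 → ξ *ᵥ v ≠ 0 ∧ ξ *ᵥ v ≠ Ω *ᵥ v := by
    intro v hv
    constructor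
    · intro h
      obtain ⟨φ, hφ⟩ := b_two hF hw hΩ hX hx hxξ hE hv h
      exact n1 _ _ hφ
    · intro h
      obtain ⟨φ, hφ⟩ := b_one hF hw hΩ hX hx hxξ hE hv h
      exact n2 _ _ hφ
  -- the vectors
  obtain ⟨v, _, hv⟩ := h2 0
  obtain ⟨f, hfv, hf⟩ := h2.dual (Ω *ᵥ v)
  obtain ⟨c, hc, hc1⟩ := exists_comm hF hw hΩ hx hxξ hE hfv
  set η : Matrix ι ι F := vecMulVec (Ω *ᵥ v) (f ᵥ* ξ + (f ⬝ᵥ (ξ *ᵥ v)) • (f ᵥ* Ω)) +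
      vecMulVec (ξ *ᵥ v) (f ᵥ* Ω) with hη
  have hηv : ∀ u, η *ᵥ u = (f ⬝ᵥ (ξ *ᵥ u) + (f ⬝ᵥ (ξ *ᵥ v)) * (f ⬝ᵥ (Ω *ᵥ u))) • (Ω *ᵥ v) +
      (f ⬝ᵥ (Ω *ᵥ u)) • (ξ *ᵥ v) := by
    intro u
    rw [hη, add_mulVec, vmv_mulVec, vmv_mulVec, add_dotProduct, smul_dotProduct, smul_eq_mul,
      dotProduct_mulVec f ξ u, dotProduct_mulVec f Ω u]
  have hηE : InE Ω η := by
    refine ⟨fun u hu => ?_, fun g hg => ?_⟩
    · rw [hηv, hu, hE.ker u hu]; simp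
    · rw [hη, vecMul_add, vecMul_vmv, vecMul_vmv, dotProduct_mulVec g Ω v, hg, dotProduct_mulVec g ξ v, hE.coker g hg]
      simp
  have hcA := hX.act hc
  obtain ⟨i, hi⟩ := Function.ne_iff.mp hf
  have hz0 : ∃ z0 : ι → F, (f ᵥ* Ω) ⬝ᵥ z0 = 1 := by
    refine ⟨Pi.single i 1, ?_⟩
    rw [dotProduct_single, mul_one]
    exact hF.ne_zero hi
  obtain ⟨z0, hz0⟩ := hz0
  have hfz0 : f ⬝ᵥ (Ω *ᵥ z0) = 1 := by rw [dotProduct_mulVec]; exact hz0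
  have hb : f ⬝ᵥ (ξ *ᵥ v) = 1 := by
    rcases hF (f ⬝ᵥ (ξ *ᵥ v)) with hb | hb
    · exfalso
      have h3 : η *ᵥ v = 0 := by rw [hηv, hb, hfv]; simp
      obtain ⟨φ, hφ⟩ := b_two hF hw hΩ hX hcA hc1 hηE hv h3
      have h4 := hηv z0
      rw [hφ, vmv_mulVec, hb, zero_mul, add_zero, hfz0, one_smul] at h4
      have h5 : ξ *ᵥ v = (φ ⬝ᵥ z0 + f ⬝ᵥ (ξ *ᵥ z0)) • (Ω *ᵥ v) := by
        rw [add_smul, h4]
        rw [add_comm, ← add_assoc, hF.vadd_self, zero_add]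
      rcases hF (φ ⬝ᵥ z0 + f ⬝ᵥ (ξ *ᵥ z0)) with h6 | h6
      · rw [h6, zero_smul] at h5
        exact (h1 v hv).1 h5
      · rw [h6, one_smul] at h5
        exact (h1 v hv).2 h5
    · exact hb
  have h3 : η *ᵥ v = Ω *ᵥ v := by rw [hηv, hb, hfv]; simp
  obtain ⟨φ, hφ⟩ := b_one hF hw hΩ hX hcA hc1 hηE hv h3
  -- `Ω` has rank two
  set α0 : ι → F := f ᵥ* ξ + f ᵥ* Ω + φ with hα0
  have hΩ2 : Ω = vecMulVec (Ω *ᵥ v) α0 + vecMulVec (ξ *ᵥ v) (f ᵥ* Ω) := by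
    have h4 : Ω + η = vecMulVec (Ω *ᵥ v) φ := by
      conv_lhs => rw [hφ]
      rw [← add_assoc, hF.madd_self, zero_add]
    have h5 : vecMulVec (Ω *ᵥ v) α0 + vecMulVec (ξ *ᵥ v) (f ᵥ* Ω) = η + vecMulVec (Ω *ᵥ v) φ := by
      rw [hη, hb, one_smul, hα0, vecMulVec_add (Ω *ᵥ v) _ φ]
      abel
    rw [h5, ← h4, add_comm Ω η, ← add_assoc, hF.madd_self, zero_add]
  obtain ⟨z, hz⟩ : ∃ z, z = z0 + (α0 ⬝ᵥ z0) • v := ⟨_, rfl⟩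
  have hΩz0 : Ω *ᵥ z0 = (α0 ⬝ᵥ z0) • (Ω *ᵥ v) + ξ *ᵥ v := by
    conv_lhs => rw [hΩ2]
    rw [add_mulVec, vmv_mulVec, vmv_mulVec, hz0, one_smul]
  have hΩz : Ω *ᵥ z = ξ *ᵥ v := by
    rw [hz, mulVec_add, mulVec_smul, hΩz0, add_comm, ← add_assoc, ← add_smul, hF.add_self, zero_smul, zero_add]
  have hfΩz : f ⬝ᵥ (Ω *ᵥ z) = 1 := by rw [hΩz, hb]
  -- dual functionals
  obtain ⟨j, hj⟩ := Function.ne_iff.mp hv
  obtain ⟨f0, hf0⟩ : ∃ f0 : ι → F, f0 ⬝ᵥ (Ω *ᵥ v) = 1 := by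
    refine ⟨Pi.single j 1, ?_⟩
    rw [single_dotProduct, one_mul]
    exact hF.ne_zero hj
  obtain ⟨f1, hf1⟩ : ∃ f1, f1 = f0 + (f0 ⬝ᵥ (ξ *ᵥ v)) • f := ⟨_, rfl⟩
  have hf11 : f1 ⬝ᵥ (Ω *ᵥ v) = 1 := by rw [hf1, add_dotProduct, smul_dotProduct, hfv, hf0]; simp
  have hf12 : f1 ⬝ᵥ (ξ *ᵥ v) = 0 := by
    rw [hf1, add_dotProduct, smul_dotProduct, hb, smul_eq_mul, mul_one, hF.add_self]
  have hξ2 := exists_vmv_two hf11 hf12 hfv hb (B := ξ) (by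
    intro g hg1 hg2
    apply hE.coker
    rw [hΩ2, vecMul_add, vecMul_vmv, vecMul_vmv, hg1, hg2, zero_smul, zero_smul, add_zero])
  -- `f (ξ z) = 1`
  have hΩz' : Ω *ᵥ z ≠ 0 := by rw [hΩz]; exact (h1 v hv).1
  have hfξz : f ⬝ᵥ (ξ *ᵥ z) = 1 := by
    rcases hF (f ⬝ᵥ (ξ *ᵥ z)) with h4 | h4
    · exfalso
      have h5 : ξ *ᵥ z = ((f1 ᵥ* ξ) ⬝ᵥ z) • (Ω *ᵥ v) := by
        conv_lhs => rw [hξ2]
        rw [add_mulVec, vmv_mulVec, vmv_mulVec, ← dotProduct_mulVec f ξ z, h4, zero_smul, add_zero]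
      rcases hF ((f1 ᵥ* ξ) ⬝ᵥ z) with h6 | h6
      · rw [h6, zero_smul] at h5
        exact (h1 z hΩz').1 h5
      · rw [h6, one_smul] at h5
        have h7 : Ω *ᵥ (z + v) ≠ 0 := by
          rw [mulVec_add, hΩz]
          intro h8
          exact (h1 v hv).2 (hF.veq h8)
        apply (h1 (z + v) h7).2
        rw [mulVec_add, mulVec_add, h5, hΩz, add_comm]
    · exact h4
  -- `φ = 0`
  have hφv : φ ⬝ᵥ v = 0 := by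
    have h4 := h3
    rw [hφ, add_mulVec, vmv_mulVec] at h4
    have h5 := add_eq_left.mp h4
    rcases hF (φ ⬝ᵥ v) with h6 | h6
    · exact h6
    · rw [h6, one_smul] at h5; exact absurd h5 hv
  have hφz : φ ⬝ᵥ z = 0 := by
    have h4 := hηv z
    rw [hfξz, hb, hfΩz, one_mul, hF.one_add_one, zero_smul, zero_add, one_smul, ← hΩz, hφ, add_mulVec, vmv_mulVec] at h4
    have h5 := add_eq_left.mp h4
    rcases hF (φ ⬝ᵥ z) with h6 | h6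
    · exact h6
    · rw [h6, one_smul] at h5; exact absurd h5 hv
  -- functionals
  have hα0v : α0 ⬝ᵥ v = 1 := by
    rw [hα0, add_dotProduct, add_dotProduct, ← dotProduct_mulVec, ← dotProduct_mulVec, hb, hfv, hφv]; simp
  have hβv : (f ᵥ* Ω) ⬝ᵥ v = 0 := by rw [← dotProduct_mulVec]; exact hfv
  have hβz : (f ᵥ* Ω) ⬝ᵥ z = 1 := by rw [← dotProduct_mulVec]; exact hfΩz
  have hα0z : α0 ⬝ᵥ z = 0 := by
    rw [hα0, add_dotProduct, add_dotProduct, ← dotProduct_mulVec, ← dotProduct_mulVec, hfξz, hfΩz, hφz, hF.one_add_one,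
      add_zero]
  have hφ0 : vecMulVec (Ω *ᵥ v) φ = 0 := by
    have h4 : ∀ u, φ ⬝ᵥ u = 0 := by
      intro u
      have h5 : Ω *ᵥ (u - (α0 ⬝ᵥ u) • v - ((f ᵥ* Ω) ⬝ᵥ u) • z) = 0 := by
        rw [mulVec_sub, mulVec_sub, mulVec_smul, mulVec_smul, hΩz]
        conv_lhs => rw [hΩ2]
        rw [add_mulVec, vmv_mulVec, vmv_mulVec, ← hΩ2]
        abel
      have h6 := hηE.ker _ h5
      rw [hφ, add_mulVec, h5, zero_add, vmv_mulVec] at h6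
      have h7 : φ ⬝ᵥ (u - (α0 ⬝ᵥ u) • v - ((f ᵥ* Ω) ⬝ᵥ u) • z) = 0 := by
        rcases hF (φ ⬝ᵥ (u - (α0 ⬝ᵥ u) • v - ((f ᵥ* Ω) ⬝ᵥ u) • z)) with h8 | h8
        · exact h8
        · rw [h8, one_smul] at h6; exact absurd h6 hv
      rw [dotProduct_sub, dotProduct_sub, dotProduct_smul, dotProduct_smul, hφv, hφz, smul_zero, smul_zero, sub_zero,
        sub_zero] at h7
      exact h7
    have h5 : φ = 0 := by
      ext i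
      have h6 := h4 (Pi.single i 1)
      rw [dotProduct_single, mul_one] at h6
      exact h6
    rw [h5, vecMulVec_zero]
  have hcw : c = w := by
    apply Subtype.ext
    rw [hc1, hw, hφ, hφ0, add_zero]
  refine ⟨by rw [← hcw]; exact hc, v, z, α0, f ᵥ* Ω, ?_, hα0v, hα0z, hβv, hβz⟩
  rw [hΩz]; exact hΩ2

end Setting

end Cfsg.Agent.OddHalf.D4.SLTwo
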