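import Mathlib
import Cfsg.Agent.OddHalf.D4.SLTwo.Core

/-!
# ODD, D4, `K = L_n(2)`: dual functionals
-/

set_option autoImplicit false
set_option linter.unusedSectionVars false

namespace Cfsg.Agent.OddHalf.D4.SLTwo

open Matrix Cfsg.Agent.ClassicalGeometry.AutPSL.Root

variable {ι F : Type*} [Fintype ι] [DecidableEq ι] [Field F]

theorem exists_vec (φ : (ι → F) →ₗ[F] F) : ∃ g : ι → F, ∀ v, g ⬝ᵥ v = φ v := by
  refine ⟨fun i => φ (Pi.single i 1), fun v => ?_⟩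
  rw [LinearMap.pi_apply_eq_sum_univ φ v]
  simp only [dotProduct, smul_eq_mul]
  apply Finset.sum_congr rfl
  intro i _
  rw [mul_comm]
  congr 2
  ext j
  simp [Pi.single_apply, eq_comm]

theorem exists_dual {k : ℕ} {v : Fin k → (ι → F)} (h : LinearIndependent F v) (i : Fin k) :
    ∃ f : ι → F, ∀ j, f ⬝ᵥ v j = if i = j then 1 else 0 := by
  let φ : ↥(Submodule.span F (Set.range v)) →ₗ[F] F := (Finsupp.lapply i).comp h.repr
  obtain ⟨ψ, hψ⟩ := LinearMap.exists_extend φ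
  obtain ⟨g, hg⟩ := exists_vec ψ
  refine ⟨g, fun j => ?_⟩
  rw [hg]
  have h1 : v j ∈ Submodule.span F (Set.range v) := Submodule.subset_span ⟨j, rfl⟩
  have h2 : ψ (v j) = φ ⟨v j, h1⟩ := by
    rw [← hψ]; rfl
  rw [h2]
  show (h.repr ⟨v j, h1⟩) i = _
  rw [h.repr_eq_single j ⟨v j, h1⟩ rfl, Finsupp.single_apply]
  simp [eq_comm]

/-- Separation of a vector from a two-dimensional space. -/
theorem exists_sep {b b' m : ι → F} (hm : m ∉ Submodule.span F {b, b'}) :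
    ∃ μ : ι → F, μ ⬝ᵥ b = 0 ∧ μ ⬝ᵥ b' = 0 ∧ μ ⬝ᵥ m ≠ 0 := by
  obtain ⟨φ, hφ, hle⟩ := Submodule.exists_le_ker_of_notMem hm
  obtain ⟨g, hg⟩ := exists_vec φ
  refine ⟨g, ?_, ?_, ?_⟩
  · rw [hg]
    exact hle (Submodule.subset_span (by simp))
  · rw [hg]
    exact hle (Submodule.subset_span (by simp))
  · rw [hg]; exact hφ

/-- A vector killed by two functionals outside a given two-dimensional space. -/
theorem exists_out (hn : 5 ≤ Fintype.card ι) (α β b b' : ι → F) :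
    ∃ m : ι → F, α ⬝ᵥ m = 0 ∧ β ⬝ᵥ m = 0 ∧ m ∉ Submodule.span F {b, b'} := by
  let Φ : (ι → F) →ₗ[F] (Fin 2 → F) :=
    { toFun := fun m => ![α ⬝ᵥ m, β ⬝ᵥ m]
      map_add' := fun x y => by
        ext i; fin_cases i <;> simp [dotProduct_add]
      map_smul' := fun c x => by
        ext i; fin_cases i <;> simp [dotProduct_smul] }
  by_contra hcon
  push Not at hcon
  have h1 : LinearMap.ker Φ ≤ Submodule.span F {b, b'} := by
    intro m hm
    have h2 : Φ m = 0 := hm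
    apply hcon m
    · exact congrFun h2 0
    · exact congrFun h2 1
  have h2 := LinearMap.finrank_range_add_finrank_ker Φ
  have h3 : Module.finrank F ↥(LinearMap.range Φ) ≤ 2 := by
    have := Submodule.finrank_le (LinearMap.range Φ)
    simpa using this
  have h4 := Submodule.finrank_mono h1
  have h5 : Module.finrank F ↥(Submodule.span F {b, b'}) ≤ 2 := by
    have h6 : ({b, b'} : Set (ι → F)) = Set.range ![b, b'] := by
      ext x
      simp only [Set.mem_insert_iff, Set.mem_singleton_iff, Set.mem_range, Fin.exists_fin_two]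
      constructor
      · rintro (h | h)
        · exact Or.inl h.symm
        · exact Or.inr h.symm
      · rintro (h | h)
        · exact Or.inl h.symm
        · exact Or.inr h.symm
    rw [h6]
    exact (finrank_range_le_card (R := F) ![b, b']).trans (by simp)
  rw [Module.finrank_fintype_fun_eq_card] at h2
  omega

/-- The vectors and functionals used for an `Ω` of rank two. -/
structure Frm (Ω : Matrix ι ι F) (v z a a' m α β l l' μ : ι → F) : Prop where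
  hv : Ω *ᵥ v = a
  hz : Ω *ᵥ z = a'
  hm : Ω *ᵥ m = 0
  Ωe : Ω = vecMulVec a α + vecMulVec a' β
  αv : α ⬝ᵥ v = 1
  αz : α ⬝ᵥ z = 0
  αa : α ⬝ᵥ a = 0
  αa' : α ⬝ᵥ a' = 0
  αm : α ⬝ᵥ m = 0
  βv : β ⬝ᵥ v = 0
  βz : β ⬝ᵥ z = 1
  βa : β ⬝ᵥ a = 0
  βa' : β ⬝ᵥ a' = 0
  βm : β ⬝ᵥ m = 0
  lv : l ⬝ᵥ v = 0
  lz : l ⬝ᵥ z = 0
  la : l ⬝ᵥ a = 1
  la' : l ⬝ᵥ a' = 0
  lm : l ⬝ᵥ m = 0
  lv' : l' ⬝ᵥ v = 0
  lz' : l' ⬝ᵥ z = 0
  l'a : l' ⬝ᵥ a = 0
  l'a' : l' ⬝ᵥ a' = 1
  l'm : l' ⬝ᵥ m = 0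
  μv : μ ⬝ᵥ v = 0
  μz : μ ⬝ᵥ z = 0
  μa : μ ⬝ᵥ a = 0
  μa' : μ ⬝ᵥ a' = 0
  μm : μ ⬝ᵥ m = 1

theorem exists_frm (hF : Two F) (hn : 5 ≤ Fintype.card ι) {Ω : Matrix ι ι F} (hΩ : Ω * Ω = 0) (h2 : R2 Ω)
    {v z α β : ι → F} (he : Ω = vecMulVec (Ω *ᵥ v) α + vecMulVec (Ω *ᵥ z) β) (αv : α ⬝ᵥ v = 1) (αz : α ⬝ᵥ z = 0)
    (βv : β ⬝ᵥ v = 0) (βz : β ⬝ᵥ z = 1) : ∃ a a' m l l' μ, Frm Ω v z a a' m α β l l' μ := by
  obtain ⟨a, ha⟩ : ∃ a, a = Ω *ᵥ v := ⟨_, rfl⟩
  obtain ⟨a', ha'⟩ : ∃ a', a' = Ω *ᵥ z := ⟨_, rfl⟩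
  rw [← ha, ← ha'] at he
  have hΩa : Ω *ᵥ a = 0 := by rw [ha, mulVec_mulVec, hΩ, zero_mulVec]
  have hΩa' : Ω *ᵥ a' = 0 := by rw [ha', mulVec_mulVec, hΩ, zero_mulVec]
  -- `a`, `a'` are independent
  have hab : ∀ c c' : F, c • a + c' • a' = 0 → c = 0 ∧ c' = 0 := by
    have key : ∀ (b φ : ι → F), Ω ≠ vecMulVec b φ := by
      intro b φ h
      obtain ⟨u, hu, hu'⟩ := h2 φ
      apply hu'
      rw [h, vmv_mulVec, hu, zero_smul]
    intro c c' h
    rcases hF c with rfl | rfl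
    · rcases hF c' with rfl | rfl
      · exact ⟨rfl, rfl⟩
      · exfalso
        rw [zero_smul, one_smul, zero_add] at h
        apply key a α
        conv_lhs => rw [he]
        rw [h, zero_vecMulVec, add_zero]
    · rcases hF c' with rfl | rfl
      · exfalso
        rw [zero_smul, one_smul, add_zero] at h
        apply key a' β
        conv_lhs => rw [he]
        rw [h, zero_vecMulVec, zero_add]
      · exfalso
        rw [one_smul, one_smul] at h
        have h' := hF.veq h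
        apply key a (α + β)
        conv_lhs => rw [he]
        rw [← h', vecMulVec_add]
  obtain ⟨m, hαm, hβm, hm⟩ := exists_out hn α β a a'
  have hΩm : Ω *ᵥ m = 0 := by
    rw [he, add_mulVec, vmv_mulVec, vmv_mulVec, hαm, hβm, zero_smul, zero_smul, add_zero]
  have hli : LinearIndependent F ![a, a', m, v, z] := by
    rw [Fintype.linearIndependent_iff]
    intro g hg
    rw [Fin.sum_univ_five] at hg
    change g 0 • a + g 1 • a' + g 2 • m + g 3 • v + g 4 • z = 0 at hg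
    have h3 : g 3 • a + g 4 • a' = 0 := by
      have := congrArg (fun u => Ω *ᵥ u) hg
      simp only [mulVec_add, mulVec_smul, hΩa, hΩa', hΩm, ← ha, ← ha', smul_zero, zero_add, mulVec_zero] at this
      exact this
    obtain ⟨h31, h32⟩ := hab _ _ h3
    rw [h31, h32, zero_smul, zero_smul, add_zero, add_zero] at hg
    have h4 : g 2 = 0 := by
      rcases hF (g 2) with h | h
      · exact h
      · exfalso
        rw [h, one_smul] at hg
        apply hm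
        rw [Submodule.mem_span_pair]
        exact ⟨g 0, g 1, hF.veq hg⟩
    rw [h4, zero_smul, add_zero] at hg
    obtain ⟨h5, h6⟩ := hab _ _ hg
    intro i
    fin_cases i
    · exact h5
    · exact h6
    · exact h4
    · exact h31
    · exact h32
  obtain ⟨l, hl⟩ := exists_dual hli 0
  obtain ⟨l', hl'⟩ := exists_dual hli 1
  obtain ⟨μ, hμ⟩ := exists_dual hli 2
  have hα0 : ∀ u, Ω *ᵥ u = 0 → α ⬝ᵥ u = 0 ∧ β ⬝ᵥ u = 0 := by
    intro u hu
    rw [he, add_mulVec, vmv_mulVec, vmv_mulVec] at hu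
    exact hab _ _ hu
  refine ⟨a, a', m, l, l', μ, ⟨ha.symm, ha'.symm, hΩm, he, αv, αz, (hα0 a hΩa).1, (hα0 a' hΩa').1, hαm, βv, βz,
    (hα0 a hΩa).2, (hα0 a' hΩa').2, hβm, ?_, ?_, ?_, ?_, ?_, ?_, ?_, ?_, ?_, ?_, ?_, ?_, ?_, ?_, ?_⟩⟩
  · simpa using hl 3
  · simpa using hl 4
  · simpa using hl 0
  · simpa using hl 1
  · simpa using hl 2
  · simpa using hl' 3
  · simpa using hl' 4
  · simpa using hl' 0
  · simpa using hl' 1
  · simpa using hl' 2
  · simpa using hμ 3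
  · simpa using hμ 4
  · simpa using hμ 0
  · simpa using hμ 1
  · simpa using hμ 2

end Cfsg.Agent.OddHalf.D4.SLTwo
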