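import Mathlib
import Cfsg.Agent.OddHalf.D4.SLTwo.Dual
import Cfsg.Agent.ClassicalGeometry.AutPSL.Auto

/-!
# ODD, D4, `K = L_n(2)`: elements of odd order, graph automorphisms, and `w` as a product of elements of odd order
-/

set_option autoImplicit false
set_option linter.unusedSectionVars false

namespace Cfsg.Agent.OddHalf.D4.SLTwo

open Matrix Cfsg.Agent.ClassicalGeometry.AutPSL.Root Cfsg.Agent.ClassicalGeometry.AutPSL.Auto

variable {ι F : Type*} [Fintype ι] [DecidableEq ι] [Field F]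

variable {w : Matrix.SpecialLinearGroup ι F} {Ω ξ : Matrix ι ι F} {X : Subgroup (Matrix.SpecialLinearGroup ι F)}

theorem inv_comm (hw : (w : Matrix ι ι F) = 1 + Ω) {x : Matrix.SpecialLinearGroup ι F} (h : x * w = w * x) :
    ((x⁻¹ : Matrix.SpecialLinearGroup ι F) : Matrix ι ι F) * Ω = Ω * (x⁻¹ : Matrix.SpecialLinearGroup ι F) := by
  rw [← comm_iff hw]
  calc x⁻¹ * w = x⁻¹ * (w * x) * x⁻¹ := by group
    _ = x⁻¹ * (x * w) * x⁻¹ := by rw [h]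
    _ = w * x⁻¹ := by group

/-- **(M2)** `X` has no elements of odd order (`rank Ω < n / 2`). -/
theorem no_odd (hF : Two F) (hw : (w : Matrix ι ι F) = 1 + Ω) (hΩ : Ω * Ω = 0) (hX : XH w X) {m μ : ι → F}
    (hm : Ω *ᵥ m = 0) (hμ : μ ᵥ* Ω = 0) (hμm : μ ⬝ᵥ m = 1) {v : ι → F} (hv : Ω *ᵥ v ≠ 0)
    {x : Matrix.SpecialLinearGroup ι F} (hx : x ∈ X) (hodd : Odd (orderOf x)) : x = 1 := by
  have hxw := hX.com x hx
  have hxΩ : (x : Matrix ι ι F) * Ω = Ω * x := (comm_iff hw x).mp hxw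
  have hxΩ' := inv_comm hw hxw
  obtain ⟨a, ha⟩ : ∃ a, a = Ω *ᵥ v := ⟨_, rfl⟩
  have ha0 : a ≠ 0 := by rw [ha]; exact hv
  have hΩa : Ω *ᵥ a = 0 := by rw [ha, mulVec_mulVec, hΩ, zero_mulVec]
  have hμa : μ ⬝ᵥ a = 0 := by rw [ha, dotProduct_mulVec, hμ, zero_dotProduct]
  -- `x` fixes `a`
  have hxa : (x : Matrix ι ι F) *ᵥ a = a := by
    obtain ⟨μ', hμ'⟩ : ∃ μ', μ' = μ ᵥ* ((x⁻¹ : Matrix.SpecialLinearGroup ι F) : Matrix ι ι F) := ⟨_, rfl⟩
    have hμ'Ω : μ' ᵥ* Ω = 0 := by rw [hμ', vecMul_vecMul, hxΩ', ← vecMul_vecMul, hμ, zero_vecMul]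
    have hs := (hX.act hx).act _ (tr_comm hw hμa hΩa hμ)
    rw [conj_tr, hF.tr_inv] at hs
    obtain ⟨s, hs'⟩ : ∃ s, s = tr ((x : Matrix ι ι F) *ᵥ a) (μ ᵥ* ((x⁻¹ : Matrix.SpecialLinearGroup ι F) : Matrix ι ι F))
      (conj_tr_aux x hμa) * tr a μ hμa := ⟨_, rfl⟩
    rw [← hs'] at hs
    have hsv : ∀ u, (s : Matrix ι ι F) *ᵥ u = (u + (μ ⬝ᵥ u) • a) + (μ' ⬝ᵥ (u + (μ ⬝ᵥ u) • a)) • ((x : Matrix ι ι F) *ᵥ a) := by
      intro u
      rw [hs', sl_mul_mulVec, tr_mulVec, tr_mulVec, ← hμ']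
    have hsa : (s : Matrix ι ι F) *ᵥ (Ω *ᵥ v) = Ω *ᵥ v := by
      rw [hsv, ← ha, hμa, zero_smul, add_zero, ha, dotProduct_mulVec, hμ'Ω, zero_dotProduct, zero_smul, add_zero]
    have h1 := (fix_of_fix hF hw hΩ hX (hX.act hs) hv hsa).2 m hm
    rw [hsv, hμm, one_smul, add_assoc] at h1
    have h2 := add_eq_left.mp h1
    rcases hF (μ' ⬝ᵥ (m + a)) with h3 | h3
    · rw [h3, zero_smul, add_zero] at h2
      exact absurd h2 ha0
    · rw [h3, one_smul] at h2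
      exact (hF.veq h2).symm
  have h1 := fix_of_fix hF hw hΩ hX (hX.act hx) hv (by rw [← ha]; exact hxa)
  obtain ⟨ξ, hξ⟩ : ∃ ξ : Matrix ι ι F, (x : Matrix ι ι F) = 1 + ξ := ⟨(x : Matrix ι ι F) - 1, by abel⟩
  have hE := inE_of_fix hF hξ h1
  have h2 : x * x = 1 := by
    apply Subtype.ext
    rw [Matrix.SpecialLinearGroup.coe_mul, Matrix.SpecialLinearGroup.coe_one, hξ]
    have e : (1 + ξ) * (1 + ξ) = 1 + (ξ + ξ) + ξ * ξ := by noncomm_ring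
    rw [e, hF.madd_self, hE.sq hΩ, add_zero, add_zero]
  have h3 : orderOf x ∣ 2 := orderOf_dvd_of_pow_eq_one (by rw [pow_two]; exact h2)
  rcases (Nat.dvd_prime Nat.prime_two).mp h3 with h4 | h4
  · exact orderOf_eq_one_iff.mp h4
  · rw [h4] at hodd
    exact absurd hodd (by decide)

/-- The contragredient automorphism on transvections. -/
theorem itr_tr (hF : Two F) {v f : ι → F} (h : f ⬝ᵥ v = 0) (h' : v ⬝ᵥ f = 0) :
    itr (tr v f h) = tr f v h' := by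
  apply Subtype.ext
  rw [coe_itr, hF.tr_inv, coe_tr, coe_tr, transpose_add, transpose_one, transpose_vecMulVec]

theorem out_tr (hF : Two F) (A : GL ι F) {v f : ι → F} (h : f ⬝ᵥ v = 0) (h' : v ⬝ᵥ f = 0) :
    (cj A * itr : MulAut (Matrix.SpecialLinearGroup ι F)) (tr v f h) = tr ((A : Matrix ι ι F) *ᵥ f) (v ᵥ* ((A⁻¹ : GL ι F) : Matrix ι ι F))
      (by rw [vecMul_inv_dotProduct, h']) := by
  rw [MulAut.mul_apply, itr_tr hF h h', cj_tr]

/-- **(M3)** the data of a graph automorphism commuting with `w`. -/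
structure Gr (w : Matrix.SpecialLinearGroup ι F) (Ω : Matrix ι ι F) (X : Subgroup (Matrix.SpecialLinearGroup ι F))
    (A B : Matrix ι ι F) : Prop where
  ba : B * A = 1
  ab : A * B = 1
  com : A * Ωᵀ = Ω * A
  act : ∀ (v f : ι → F) (h : f ⬝ᵥ v = 0) (h' : (v ᵥ* B) ⬝ᵥ (A *ᵥ f) = 0), Ω *ᵥ v = 0 → f ᵥ* Ω = 0 →
    tr (A *ᵥ f) (v ᵥ* B) h' * tr v f h ∈ X

theorem Gr.com' {A B : Matrix ι ι F} (g : Gr w Ω X A B) : Ωᵀ * B = B * Ω := by
  calc Ωᵀ * B = B * A * Ωᵀ * B := by rw [g.ba, one_mul]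
    _ = B * (A * Ωᵀ) * B := by rw [mul_assoc B A]
    _ = B * (Ω * A) * B := by rw [g.com]
    _ = B * Ω * (A * B) := by simp only [mul_assoc]
    _ = B * Ω := by rw [g.ab, mul_one]

theorem Gr.aux {A B : Matrix ι ι F} (g : Gr w Ω X A B) {v f : ι → F} (h : f ⬝ᵥ v = 0) :
    (v ᵥ* B) ⬝ᵥ (A *ᵥ f) = 0 := by
  rw [← dotProduct_mulVec, mulVec_mulVec, g.ba, one_mulVec, dotProduct_comm]; exact h

/-- No graph automorphism, first case. -/
theorem no_graph_one (hF : Two F) (hw : (w : Matrix ι ι F) = 1 + Ω) (hΩ : Ω * Ω = 0) (hX : XH w X) {m μ : ι → F}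
    (hm : Ω *ᵥ m = 0) (hμ : μ ᵥ* Ω = 0) (hμm : μ ⬝ᵥ m = 1) {u : ι → F} (hu : Ω *ᵥ u ≠ 0)
    {A B : Matrix ι ι F} (g : Gr w Ω X A B) : False := by
  obtain ⟨a, ha⟩ : ∃ a, a = Ω *ᵥ u := ⟨_, rfl⟩
  have ha0 : a ≠ 0 := by rw [ha]; exact hu
  have hΩa : Ω *ᵥ a = 0 := by rw [ha, mulVec_mulVec, hΩ, zero_mulVec]
  have hμa : μ ⬝ᵥ a = 0 := by rw [ha, dotProduct_mulVec, hμ, zero_dotProduct]
  have hs := g.act a μ hμa (g.aux hμa) hΩa hμ
  obtain ⟨s, hs'⟩ : ∃ s, s = tr (A *ᵥ μ) (a ᵥ* B) (g.aux hμa) * tr a μ hμa := ⟨_, rfl⟩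
  rw [← hs'] at hs
  have hq : a ᵥ* B = (u ᵥ* B) ᵥ* Ω := by
    rw [ha, ← vecMul_transpose, vecMul_vecMul, g.com', vecMul_vecMul]
  have hsv : ∀ x, (s : Matrix ι ι F) *ᵥ x = (x + (μ ⬝ᵥ x) • a) + ((a ᵥ* B) ⬝ᵥ (x + (μ ⬝ᵥ x) • a)) • (A *ᵥ μ) := by
    intro x
    rw [hs', sl_mul_mulVec, tr_mulVec, tr_mulVec]
  have hqa : (a ᵥ* B) ⬝ᵥ a = 0 := by rw [hq, ← dotProduct_mulVec, hΩa, dotProduct_zero]
  have hqm : (a ᵥ* B) ⬝ᵥ m = 0 := by rw [hq, ← dotProduct_mulVec, hm, dotProduct_zero]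
  have hsa : (s : Matrix ι ι F) *ᵥ (Ω *ᵥ u) = Ω *ᵥ u := by
    rw [hsv, ← ha, hμa, zero_smul, add_zero, hqa, zero_smul, add_zero]
  have h1 := (fix_of_fix hF hw hΩ hX (hX.act hs) hu hsa).2 m hm
  rw [hsv, hμm, one_smul, dotProduct_add, hqm, hqa, add_zero, zero_smul, add_zero] at h1
  exact ha0 (add_eq_left.mp h1)

/-- No graph automorphism, second case. -/
theorem no_graph_two (hF : Two F) (hw : (w : Matrix ι ι F) = 1 + Ω) (hΩ : Ω * Ω = 0) (hX : XH w X) (h2 : R2 Ω)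
    (h3 : R3 Ω) {A B : Matrix ι ι F} (g : Gr w Ω X A B) : False := by
  obtain ⟨u, _, hu⟩ := h2 0
  obtain ⟨a, ha⟩ : ∃ a, a = Ω *ᵥ u := ⟨_, rfl⟩
  have ha0 : a ≠ 0 := by rw [ha]; exact hu
  have hΩa : Ω *ᵥ a = 0 := by rw [ha, mulVec_mulVec, hΩ, zero_mulVec]
  have hq : a ᵥ* B = (u ᵥ* B) ᵥ* Ω := by
    rw [ha, ← vecMul_transpose, vecMul_vecMul, g.com', vecMul_vecMul]
  have hqa : (a ᵥ* B) ⬝ᵥ a = 0 := by rw [hq, ← dotProduct_mulVec, hΩa, dotProduct_zero]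
  -- every `f = k Ω` is `0` or `a B`
  have key : ∀ k : ι → F, k ᵥ* Ω = 0 ∨ k ᵥ* Ω = a ᵥ* B := by
    intro k
    by_cases hk : k ᵥ* Ω = 0
    · exact Or.inl hk
    right
    obtain ⟨f, hf⟩ : ∃ f, f = k ᵥ* Ω := ⟨_, rfl⟩
    have hfΩ : f ᵥ* Ω = 0 := by rw [hf, vecMul_vecMul, hΩ, vecMul_zero]
    have hfa : f ⬝ᵥ a = 0 := by rw [hf, ← dotProduct_mulVec, hΩa, dotProduct_zero]
    have hs := g.act a f hfa (g.aux hfa) hΩa hfΩ
    obtain ⟨s, hs'⟩ : ∃ s, s = tr (A *ᵥ f) (a ᵥ* B) (g.aux hfa) * tr a f hfa := ⟨_, rfl⟩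
    rw [← hs'] at hs
    have hAf : A *ᵥ f = Ω *ᵥ (A *ᵥ k) := by
      rw [hf, ← mulVec_transpose, mulVec_mulVec, g.com, mulVec_mulVec]
    have hsσ : (s : Matrix ι ι F) = 1 + (vecMulVec (A *ᵥ f) (a ᵥ* B) + vecMulVec a f) := by
      have e : ∀ P Q : Matrix ι ι F, (1 + P) * (1 + Q) = 1 + (P + Q) + P * Q := by
        intro P Q; noncomm_ring
      rw [hs', Matrix.SpecialLinearGroup.coe_mul, coe_tr, coe_tr, e, vmv_vmv, hqa, zero_smul, add_zero]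
    have hE : InE Ω (vecMulVec (A *ᵥ f) (a ᵥ* B) + vecMulVec a f) := by
      refine ⟨fun x hx => ?_, fun x hx => ?_⟩
      · have e1 : (a ᵥ* B) ⬝ᵥ x = 0 := by rw [hq, ← dotProduct_mulVec, hx, dotProduct_zero]
        have e2 : f ⬝ᵥ x = 0 := by rw [hf, ← dotProduct_mulVec, hx, dotProduct_zero]
        rw [add_mulVec, vmv_mulVec, vmv_mulVec, e1, e2]
        simp
      · have e1 : x ⬝ᵥ (A *ᵥ f) = 0 := by rw [hAf, dotProduct_mulVec, hx, zero_dotProduct]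
        have e2 : x ⬝ᵥ a = 0 := by rw [ha, dotProduct_mulVec, hx, zero_dotProduct]
        rw [vecMul_add, vecMul_vmv, vecMul_vmv, e1, e2]
        simp
    obtain ⟨v', h31, h32, hv'⟩ := h3 (a ᵥ* B) f
    obtain ⟨φ, hφ⟩ := b_two hF hw hΩ hX (hX.act hs) hsσ hE hv' (by
      rw [add_mulVec, vmv_mulVec, vmv_mulVec, h31, h32]; simp)
    have hφ0 : φ ⬝ᵥ (Ω *ᵥ v') = 0 := by
      have h4 := hE.mul_right hΩ
      rw [hφ, vmv_mul] at h4
      obtain ⟨i, hi⟩ := Function.ne_iff.mp hv'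
      have h5 : φ ᵥ* Ω = 0 := by
        ext j
        have h6 := congrFun (congrFun h4 i) j
        rw [vecMulVec_apply] at h6
        have h7 : (Ω *ᵥ v') i ≠ 0 := hi
        rcases mul_eq_zero.mp h6 with h8 | h8
        · exact absurd h8 h7
        · exact h8
      rw [dotProduct_mulVec, h5, zero_dotProduct]
    rcases hX.noTr' hw hs (by rw [hsσ, hφ]) hφ0 with h4 | h4
    · exact absurd h4 hv'
    · rw [h4, vecMulVec_zero] at hφ
      have h5 := hF.meq hφ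
      -- compare a row
      obtain ⟨i, hi⟩ := Function.ne_iff.mp ha0
      have hai : a i = 1 := hF.ne_zero hi
      have h6 : ∀ j, (A *ᵥ f) i * (a ᵥ* B) j = f j := by
        intro j
        have h7 := congrFun (congrFun h5 i) j
        rw [vecMulVec_apply, vecMulVec_apply, hai, one_mul] at h7
        exact h7
      rcases hF ((A *ᵥ f) i) with h7 | h7
      · exfalso
        apply hk
        rw [← hf]
        ext j
        rw [← h6 j, h7, zero_mul]; rfl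
      · rw [← hf]
        ext j
        rw [← h6 j, h7, one_mul]
  obtain ⟨v, hv, hv'⟩ := h2 (a ᵥ* B)
  apply hv'
  ext i
  have h4 : (Ω *ᵥ v) i = ((Pi.single i 1 : ι → F) ᵥ* Ω) ⬝ᵥ v := by
    rw [← dotProduct_mulVec, single_dotProduct, one_mul]
  rw [h4]
  rcases key (Pi.single i 1) with h5 | h5
  · rw [h5, zero_dotProduct]; rfl
  · rw [h5, hv]; rfl

/-! ### `w` is a product of elements of odd order -/

theorem pow_three_of_braid {G : Type*} [Group G] {a b : G} (ha : a * a = 1) (hb : b * b = 1)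
    (h : a * b * a = b * a * b) : (a * b) ^ 3 = 1 := by
  calc (a * b) ^ 3 = (a * b * a) * (b * a * b) := by rw [pow_three]; simp only [mul_assoc]
    _ = (a * b * a) * (a * b * a) := by rw [← h]
    _ = a * b * (a * a) * b * a := by group
    _ = a * (b * b) * a := by rw [ha]; group
    _ = 1 := by rw [hb, mul_one, ha]

theorem mem_odd (hF : Two F) (hw : (w : Matrix ι ι F) = 1 + Ω) {v z a a' m α β l l' μ : ι → F}
    (hΩ : Ω * Ω = 0) (h : Frm Ω v z a a' m α β l l' μ) :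
    w ∈ Subgroup.closure {e : Matrix.SpecialLinearGroup ι F | e * w = w * e ∧ Odd (orderOf e)} := by
  set C := Subgroup.closure {e : Matrix.SpecialLinearGroup ι F | e * w = w * e ∧ Odd (orderOf e)} with hC
  have hαΩ : α ᵥ* Ω = 0 := by rw [h.Ωe, vecMul_add, vecMul_vmv, vecMul_vmv, h.αa, h.αa']; simp
  have hβΩ : β ᵥ* Ω = 0 := by rw [h.Ωe, vecMul_add, vecMul_vmv, vecMul_vmv, h.βa, h.βa']; simp
  have hlΩ : l ᵥ* Ω = α := by rw [h.Ωe, vecMul_add, vecMul_vmv, vecMul_vmv, h.la, h.la']; simp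
  have hlΩ' : l' ᵥ* Ω = β := by rw [h.Ωe, vecMul_add, vecMul_vmv, vecMul_vmv, h.l'a, h.l'a']; simp
  have hμΩ : μ ᵥ* Ω = 0 := by rw [h.Ωe, vecMul_add, vecMul_vmv, vecMul_vmv, h.μa, h.μa']; simp
  have hΩa : Ω *ᵥ a = 0 := by rw [← h.hv, mulVec_mulVec, hΩ, zero_mulVec]
  have hΩa' : Ω *ᵥ a' = 0 := by rw [← h.hz, mulVec_mulVec, hΩ, zero_mulVec]
  -- the involutions
  set n1 : Matrix ι ι F := vecMulVec v β + vecMulVec a l' with hn1
  set n2 : Matrix ι ι F := vecMulVec z α + vecMulVec a' l with hn2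
  have h11 : n1 * n1 = 0 := by
    rw [hn1, add_mul, mul_add, mul_add, vmv_vmv, vmv_vmv, vmv_vmv, vmv_vmv, h.βv, h.βa, h.lv', h.l'a]; simp
  have h22 : n2 * n2 = 0 := by
    rw [hn2, add_mul, mul_add, mul_add, vmv_vmv, vmv_vmv, vmv_vmv, vmv_vmv, h.αz, h.αa', h.lz, h.la']; simp
  have h12 : n1 * n2 = vecMulVec v α + vecMulVec a l := by
    rw [hn1, hn2, add_mul, mul_add, mul_add, vmv_vmv, vmv_vmv, vmv_vmv, vmv_vmv, h.βz, h.βa', h.lz', h.l'a']; simp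
  have h21 : n2 * n1 = vecMulVec z β + vecMulVec a' l' := by
    rw [hn1, hn2, add_mul, mul_add, mul_add, vmv_vmv, vmv_vmv, vmv_vmv, vmv_vmv, h.αv, h.αa, h.lv, h.la]; simp
  have h121 : n1 * n2 * n1 = n1 := by
    rw [h12, hn1, add_mul, mul_add, mul_add, vmv_vmv, vmv_vmv, vmv_vmv, vmv_vmv, h.αv, h.αa, h.lv, h.la]; simp
  have h212 : n2 * n1 * n2 = n2 := by
    rw [h21, hn2, add_mul, mul_add, mul_add, vmv_vmv, vmv_vmv, vmv_vmv, vmv_vmv, h.βz, h.βa', h.lz', h.l'a']; simp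
  obtain ⟨g1, hg1⟩ : ∃ g : Matrix.SpecialLinearGroup ι F, (g : Matrix ι ι F) = 1 + n1 := by
    apply hF.exists_sl (B := 1 + n1)
    have e : (1 + n1) * (1 + n1) = 1 + (n1 + n1) + n1 * n1 := by noncomm_ring
    rw [e, hF.madd_self, h11, add_zero, add_zero]
  obtain ⟨g2, hg2⟩ : ∃ g : Matrix.SpecialLinearGroup ι F, (g : Matrix ι ι F) = 1 + n2 := by
    apply hF.exists_sl (B := 1 + n2)
    have e : (1 + n2) * (1 + n2) = 1 + (n2 + n2) + n2 * n2 := by noncomm_ring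
    rw [e, hF.madd_self, h22, add_zero, add_zero]
  have hg11 : g1 * g1 = 1 := by
    apply Subtype.ext
    rw [Matrix.SpecialLinearGroup.coe_mul, Matrix.SpecialLinearGroup.coe_one, hg1]
    have e : (1 + n1) * (1 + n1) = 1 + (n1 + n1) + n1 * n1 := by noncomm_ring
    rw [e, hF.madd_self, h11, add_zero, add_zero]
  have hg22 : g2 * g2 = 1 := by
    apply Subtype.ext
    rw [Matrix.SpecialLinearGroup.coe_mul, Matrix.SpecialLinearGroup.coe_one, hg2]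
    have e : (1 + n2) * (1 + n2) = 1 + (n2 + n2) + n2 * n2 := by noncomm_ring
    rw [e, hF.madd_self, h22, add_zero, add_zero]
  have hbr : g1 * g2 * g1 = g2 * g1 * g2 := by
    apply Subtype.ext
    rw [Matrix.SpecialLinearGroup.coe_mul, Matrix.SpecialLinearGroup.coe_mul, Matrix.SpecialLinearGroup.coe_mul,
      Matrix.SpecialLinearGroup.coe_mul, hg1, hg2]
    have e1 : (1 + n1) * (1 + n2) * (1 + n1) = 1 + (n1 + n1) + n2 + n1 * n1 + n1 * n2 + n2 * n1 + n1 * n2 * n1 := by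
      noncomm_ring
    have e2 : (1 + n2) * (1 + n1) * (1 + n2) = 1 + (n2 + n2) + n1 + n2 * n2 + n1 * n2 + n2 * n1 + n2 * n1 * n2 := by
      noncomm_ring
    rw [e1, e2, h121, h212, h11, h22, hF.madd_self, hF.madd_self]
    abel
  have hg1w : g1 * w = w * g1 := by
    rw [comm_iff hw, hg1, hn1, add_mul, mul_add, one_mul, mul_one, add_mul, mul_add, vmv_mul, vmv_mul, mul_vmv, mul_vmv,
      hβΩ, hlΩ', h.hv, hΩa]
    simp
  have hg2w : g2 * w = w * g2 := by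
    rw [comm_iff hw, hg2, hn2, add_mul, mul_add, one_mul, mul_one, add_mul, mul_add, vmv_mul, vmv_mul, mul_vmv, mul_vmv,
      hαΩ, hlΩ, h.hz, hΩa']
    simp
  have hgv1 : ∀ x, (g1 : Matrix ι ι F) *ᵥ x = x + ((β ⬝ᵥ x) • v + (l' ⬝ᵥ x) • a) := by
    intro x
    rw [hg1, add_mulVec, one_mulVec, hn1, add_mulVec, vmv_mulVec, vmv_mulVec]
  have hgv2 : ∀ x, (g2 : Matrix ι ι F) *ᵥ x = x + ((α ⬝ᵥ x) • z + (l ⬝ᵥ x) • a') := by
    intro x
    rw [hg2, add_mulVec, one_mulVec, hn2, add_mulVec, vmv_mulVec, vmv_mulVec]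
  have hgf1 : ∀ x, x ᵥ* (g1 : Matrix ι ι F) = x + ((x ⬝ᵥ v) • β + (x ⬝ᵥ a) • l') := by
    intro x
    rw [hg1, vecMul_add, vecMul_one, hn1, vecMul_add, vecMul_vmv, vecMul_vmv]
  have hgf2 : ∀ x, x ᵥ* (g2 : Matrix ι ι F) = x + ((x ⬝ᵥ z) • α + (x ⬝ᵥ a') • l) := by
    intro x
    rw [hg2, vecMul_add, vecMul_one, hn2, vecMul_add, vecMul_vmv, vecMul_vmv]
  -- the element of order three
  obtain ⟨d, hd⟩ : ∃ d, d = g1 * g2 := ⟨_, rfl⟩
  have hd3 : d ^ 3 = 1 := by rw [hd]; exact pow_three_of_braid hg11 hg22 hbr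
  have hdo : Odd (orderOf d) := Odd.of_dvd_nat (by decide) (orderOf_dvd_of_pow_eq_one hd3)
  have hdw : d * w = w * d := by
    rw [hd]
    calc g1 * g2 * w = g1 * (g2 * w) := by group
      _ = g1 * w * g2 := by rw [hg2w]; group
      _ = w * g1 * g2 := by rw [hg1w]
      _ = w * (g1 * g2) := by group
  have hdv : ∀ x, (d : Matrix ι ι F) *ᵥ x = (g1 : Matrix ι ι F) *ᵥ ((g2 : Matrix ι ι F) *ᵥ x) := by
    intro x; rw [hd, sl_mul_mulVec]
  have hdi : d⁻¹ = g2 * g1 := by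
    rw [hd, _root_.mul_inv_rev, inv_eq_of_mul_eq_one_right hg11, inv_eq_of_mul_eq_one_right hg22]
  have hdf : ∀ x, x ᵥ* ((d⁻¹ : Matrix.SpecialLinearGroup ι F) : Matrix ι ι F) =
      (x ᵥ* (g2 : Matrix ι ι F)) ᵥ* (g1 : Matrix ι ι F) := by
    intro x; rw [hdi, Matrix.SpecialLinearGroup.coe_mul, vecMul_vecMul]
  -- commutators with `d`
  have key : ∀ t : Matrix.SpecialLinearGroup ι F, t * w = w * t → d * t * d⁻¹ * t⁻¹ ∈ C := by
    intro t ht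
    have h1 : d ∈ C := Subgroup.subset_closure ⟨hdw, hdo⟩
    have h2 : t * d⁻¹ * t⁻¹ ∈ C := by
      apply Subgroup.subset_closure
      refine ⟨?_, ?_⟩
      · have e1 : d⁻¹ * w = w * d⁻¹ := by
          calc d⁻¹ * w = d⁻¹ * (w * d) * d⁻¹ := by group
            _ = d⁻¹ * (d * w) * d⁻¹ := by rw [hdw]
            _ = w * d⁻¹ := by group
        have e2 : t⁻¹ * w = w * t⁻¹ := by
          calc t⁻¹ * w = t⁻¹ * (w * t) * t⁻¹ := by group
            _ = t⁻¹ * (t * w) * t⁻¹ := by rw [ht]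
            _ = w * t⁻¹ := by group
        calc t * d⁻¹ * t⁻¹ * w = t * d⁻¹ * (t⁻¹ * w) := by group
          _ = t * (d⁻¹ * w) * t⁻¹ := by rw [e2]; group
          _ = (t * w) * d⁻¹ * t⁻¹ := by rw [e1]; group
          _ = w * (t * d⁻¹ * t⁻¹) := by rw [ht]; group
      · have e3 : orderOf (t * d⁻¹ * t⁻¹) = orderOf d⁻¹ :=
          orderOf_injective (MulAut.conj t).toMonoidHom (MulAut.conj t).injective d⁻¹
        rw [e3, orderOf_inv]; exact hdo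
    have e : d * t * d⁻¹ * t⁻¹ = d * (t * d⁻¹ * t⁻¹) := by group
    rw [e]; exact C.mul_mem h1 h2
  have trC : ∀ (x y x' y' : ι → F) (h1 : y ⬝ᵥ x = 0), Ω *ᵥ x = 0 → y ᵥ* Ω = 0 →
      (d : Matrix ι ι F) *ᵥ x = x' → y ᵥ* ((d⁻¹ : Matrix.SpecialLinearGroup ι F) : Matrix ι ι F) = y' →
      ∀ h2 : y' ⬝ᵥ x' = 0, tr x' y' h2 * tr x y h1 ∈ C := by
    intro x y x' y' h1 hx hy hx' hy' h2
    have h3 := key (tr x y h1) (tr_comm hw h1 hx hy)
    rw [conj_tr, hF.tr_inv, tr_congr _ h2 hx' hy'] at h3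
    exact h3
  -- `a ⊗ μ`, `a' ⊗ μ`
  have hda : (d : Matrix ι ι F) *ᵥ a = a' := by
    rw [hdv, hgv2, h.αa, h.la, zero_smul, zero_add, one_smul, hgv1, dotProduct_add, dotProduct_add, h.βa, h.βa', h.l'a,
      h.l'a', add_zero, zero_smul, zero_add, zero_add, one_smul]
    have e : a + a' + a = a' + (a + a) := by abel
    rw [e, hF.vadd_self, add_zero]
  have hda' : (d : Matrix ι ι F) *ᵥ a' = a' + a := by
    rw [hdv, hgv2, h.αa', h.la', zero_smul, zero_smul, add_zero, add_zero, hgv1, h.βa', h.l'a', zero_smul, zero_add,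
      one_smul]
  have hdμ : μ ᵥ* ((d⁻¹ : Matrix.SpecialLinearGroup ι F) : Matrix ι ι F) = μ := by
    rw [hdf, hgf2, h.μz, h.μa', hgf1]
    simp [h.μv, h.μa]
  have hdm : (d : Matrix ι ι F) *ᵥ m = m := by
    rw [hdv, hgv2, h.αm, h.lm, hgv1]
    simp [h.βm, h.l'm]
  have hdα : α ᵥ* ((d⁻¹ : Matrix.SpecialLinearGroup ι F) : Matrix ι ι F) = α + β := by
    rw [hdf, hgf2, h.αz, h.αa', hgf1]
    simp [h.αv, h.αa]
  have hdβ : β ᵥ* ((d⁻¹ : Matrix.SpecialLinearGroup ι F) : Matrix ι ι F) = α := by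
    rw [hdf, hgf2, h.βz, h.βa', one_smul, zero_smul, add_zero, hgf1, add_dotProduct, add_dotProduct, h.βv, h.αv, h.βa,
      h.αa, zero_add, one_smul, add_zero, zero_smul, add_zero]
    have e : β + α + β = α + (β + β) := by abel
    rw [e, hF.vadd_self, add_zero]
  have hμa2 : μ ⬝ᵥ (a' + a) = 0 := by rw [dotProduct_add, h.μa', h.μa, add_zero]
  have c1 : tr a' μ h.μa' * tr a μ h.μa ∈ C := trC a μ a' μ h.μa hΩa hμΩ hda hdμ h.μa'
  have c2 : tr (a' + a) μ hμa2 * tr a' μ h.μa' ∈ C := trC a' μ (a' + a) μ h.μa' hΩa' hμΩ hda' hdμ hμa2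
  have c3 : tr a μ h.μa ∈ C := by
    rw [tr_mul_same_axis] at c2
    have e : a' + a + a' = a := by
      have : a' + a + a' = a + (a' + a') := by abel
      rw [this, hF.vadd_self, add_zero]
    rwa [tr_congr _ h.μa e rfl] at c2
  have c4 : tr a' μ h.μa' ∈ C := by
    have := C.mul_mem c1 (C.inv_mem c3)
    rwa [mul_inv_cancel_right] at this
  -- `m ⊗ α`, `m ⊗ β`
  have hαβm : (α + β) ⬝ᵥ m = 0 := by rw [add_dotProduct, h.αm, h.βm, add_zero]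
  have c5 : tr m (α + β) hαβm * tr m α h.αm ∈ C := trC m α m (α + β) h.αm h.hm hαΩ hdm hdα hαβm
  have c6 : tr m α h.αm * tr m β h.βm ∈ C := trC m β m α h.βm h.hm hβΩ hdm hdβ h.αm
  have c7 : tr m β h.βm ∈ C := by
    rw [tr_mul_same_center] at c5
    have e : α + β + α = β := by
      have : α + β + α = β + (α + α) := by abel
      rw [this, hF.vadd_self, add_zero]
    rwa [tr_congr _ h.βm rfl e] at c5
  have c8 : tr m α h.αm ∈ C := by
    have := C.mul_mem c6 (C.inv_mem c7)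
    rwa [mul_inv_cancel_right] at this
  -- commutators
  have hcom : ∀ (b φ : ι → F) (hb : μ ⬝ᵥ b = 0) (hφ : φ ⬝ᵥ m = 0) (hφb : φ ⬝ᵥ b = 0), tr b μ hb ∈ C → tr m φ hφ ∈ C →
      tr b φ hφb ∈ C := by
    intro b φ hb hφ hφb h1 h2
    have h3 := C.mul_mem (C.mul_mem (C.mul_mem h1 h2) (C.inv_mem h1)) (C.inv_mem h2)
    rw [conj_tr] at h3
    have e1 : (tr b μ hb : Matrix ι ι F) *ᵥ m = m + b := by rw [tr_mulVec, h.μm, one_smul]
    have e2 : φ ᵥ* (((tr b μ hb)⁻¹ : Matrix.SpecialLinearGroup ι F) : Matrix ι ι F) = φ := by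
      rw [hF.tr_inv, coe_tr, vecMul_add, vecMul_one, vecMul_vmv, hφb, zero_smul, add_zero]
    have e3 : φ ⬝ᵥ (m + b) = 0 := by rw [dotProduct_add, hφ, hφb, add_zero]
    rw [tr_congr _ e3 e1 e2, hF.tr_inv, tr_mul_same_axis] at h3
    have e4 : m + b + m = b := by
      have : m + b + m = b + (m + m) := by abel
      rw [this, hF.vadd_self, add_zero]
    rwa [tr_congr _ hφb e4 rfl] at h3
  have c9 := hcom a α h.μa h.αm h.αa c3 c8
  have c10 := hcom a' β h.μa' h.βm h.βa' c4 c7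
  have hfin : w = tr a α h.αa * tr a' β h.βa' := by
    apply Subtype.ext
    have e : ∀ P Q : Matrix ι ι F, (1 + P) * (1 + Q) = 1 + (P + Q) + P * Q := by
      intro P Q; noncomm_ring
    rw [Matrix.SpecialLinearGroup.coe_mul, coe_tr, coe_tr, hw, e, vmv_vmv, h.αa', zero_smul, add_zero]
    conv_lhs => rw [h.Ωe]
  rw [hfin]
  exact C.mul_mem c9 c10

end Cfsg.Agent.OddHalf.D4.SLTwo
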