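import Mathlib
import Cfsg.Agent.OddHalf.D4.SLTwo.Ends
import Cfsg.Agent.OddHalf.D4.KP
import Cfsg.Agent.ClassicalGeometry.AutPSL.Main
import Cfsg.Agent.ClassicalGeometry.AutPSL.SylowU

/-!
# ODD, D4, `K = L_n(2)`: automorphisms and Sylow 2-subgroups of `SL_n(F_2)`
-/

set_option autoImplicit false
set_option linter.unusedSectionVars false

namespace Cfsg.Agent.OddHalf.D4.SLTwo

open Matrix Cfsg.Agent.ClassicalGeometry.AutPSL.Root Cfsg.Agent.ClassicalGeometry.AutPSL.Auto
  Cfsg.Agent.ClassicalGeometry.AutPSL.SylowU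

variable {F : Type*} [Field F] {n : ℕ}

/-- abbreviation -/
abbrev SLn (n : ℕ) (F : Type*) [Field F] := Matrix.SpecialLinearGroup (Fin n) F

theorem two_of_card [Fintype F] (h : Fintype.card F = 2) : Two F := by
  classical
  intro c
  by_contra hcon
  push Not at hcon
  have h1 : ({0, 1, c} : Finset F).card = 3 := by
    rw [Finset.card_eq_three]
    exact ⟨0, 1, c, zero_ne_one, hcon.1.symm, hcon.2.symm, rfl⟩
  have h2 := Finset.card_le_univ ({0, 1, c} : Finset F)
  rw [h1, h] at h2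
  omega

theorem eq_one_of_center (hF : Two F) (hn : 1 ≤ n) {z : SLn n F} (hz : z ∈ Subgroup.center (SLn n F)) : z = 1 := by
  obtain ⟨r, hr, hz'⟩ := Matrix.SpecialLinearGroup.mem_center_iff.mp hz
  have h1 : r = 1 := by
    rcases hF r with h | h
    · rw [h, Fintype.card_fin, zero_pow (by omega)] at hr
      exact absurd hr zero_ne_one
    · exact h
  apply Subtype.ext
  rw [← hz', h1, map_one, Matrix.SpecialLinearGroup.coe_one]

theorem pr_injective (hF : Two F) (hn : 1 ≤ n) : Function.Injective (pr : SLn n F →* _) := by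
  rw [injective_iff_map_eq_one]
  intro x hx
  rw [pr_eq_one_iff] at hx
  exact eq_one_of_center hF hn hx

/-- `SL_n(F_2) ≃ PSL_n(F_2)`. -/
noncomputable def slEquiv (hF : Two F) (hn : 1 ≤ n) : SLn n F ≃* Matrix.ProjectiveSpecialLinearGroup (Fin n) F :=
  MulEquiv.ofBijective pr ⟨pr_injective hF hn, pr_surjective⟩

theorem slEquiv_apply (hF : Two F) (hn : 1 ≤ n) (x : SLn n F) : slEquiv hF hn x = pr x := rfl

theorem fld_eq_one (hF : Two F) (σ : F ≃+* F) : (fld σ : MulAut (SLn n F)) = 1 := by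
  apply MulEquiv.ext
  intro g
  apply Subtype.ext
  ext i j
  rw [coe_fld_apply]
  show σ ((g : Matrix (Fin n) (Fin n) F) i j) = (g : Matrix (Fin n) (Fin n) F) i j
  rcases hF ((g : Matrix (Fin n) (Fin n) F) i j) with h | h
  · rw [h, map_zero]
  · rw [h, map_one]

/-- Automorphisms of `SL_n(F_2)`. -/
theorem aut_cases [Fintype F] (h2 : Fintype.card F = 2) (hn : 3 ≤ n) (α : MulAut (SLn n F)) :
    ∃ A : GL (Fin n) F, α = cj A ∨ α = cj A * itr := by
  have hF := two_of_card h2
  have hn1 : 1 ≤ n := by omega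
  have : Fact (Nat.Prime 2) := ⟨Nat.prime_two⟩
  have : CharP F 2 := by
    have h3 : (2 : F) = 0 := by rw [← one_add_one_eq_two]; exact hF.one_add_one
    exact CharTwo.of_one_ne_zero_of_two_eq_zero one_ne_zero h3
  let e := slEquiv (n := n) hF hn1
  let β : MulAut (Matrix.ProjectiveSpecialLinearGroup (Fin n) F) := MulAut.congr e α
  have hβ : ∀ x : SLn n F, β (pr x) = pr (α x) := by
    intro x
    show e (α (e.symm (pr x))) = pr (α x)
    have : e.symm (pr x) = x := e.symm_apply_apply x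
    rw [this]; rfl
  have key : ∀ γ : MulAut (SLn n F), β = lift γ → α = γ := by
    intro γ hγ
    apply MulEquiv.ext
    intro x
    apply pr_injective hF hn1
    rw [← hβ, hγ, lift_pr]
  rcases Cfsg.Agent.ClassicalGeometry.AutPSL.Main.surj_three 2 hn β with ⟨A, σ, h⟩ | ⟨A, σ, h⟩
  · refine ⟨A, Or.inl ?_⟩
    rw [fld_eq_one hF, mul_one] at h
    exact key _ h
  · refine ⟨A, Or.inr ?_⟩
    rw [fld_eq_one hF, mul_one] at h
    exact key _ h

/-- `cj A` is inner over the field of two elements. -/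
theorem exists_conj (hF : Two F) (A : GL (Fin n) F) : ∃ g : SLn n F, (cj A : MulAut (SLn n F)) = MulAut.conj g := by
  have h1 : (A : Matrix (Fin n) (Fin n) F) * ((A⁻¹ : GL (Fin n) F) : Matrix (Fin n) (Fin n) F) = 1 := by
    rw [← Units.val_mul, mul_inv_cancel, Units.val_one]
  obtain ⟨g, hg⟩ := hF.exists_sl h1
  refine ⟨g, ?_⟩
  apply MulEquiv.ext
  intro x
  apply Subtype.ext
  rw [coe_cj, MulAut.conj_apply, Matrix.SpecialLinearGroup.coe_mul, Matrix.SpecialLinearGroup.coe_mul, hg]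
  congr 1
  have h2 := inv_mul_val g
  rw [hg] at h2
  have h3 : ((g⁻¹ : SLn n F) : Matrix (Fin n) (Fin n) F) * ((A : Matrix (Fin n) (Fin n) F) *
      ((A⁻¹ : GL (Fin n) F) : Matrix (Fin n) (Fin n) F)) = ((A⁻¹ : GL (Fin n) F) : Matrix (Fin n) (Fin n) F) := by
    rw [← mul_assoc, h2, one_mul]
  rw [← h3, h1, mul_one]

/-- The contragredient of a matrix. -/
def ctr (A : GL (Fin n) F) : GL (Fin n) F :=
  ⟨((A⁻¹ : GL (Fin n) F) : Matrix (Fin n) (Fin n) F)ᵀ, (A : Matrix (Fin n) (Fin n) F)ᵀ, by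
    rw [← transpose_mul, ← Units.val_mul, mul_inv_cancel, Units.val_one, transpose_one], by
    rw [← transpose_mul, ← Units.val_mul, inv_mul_cancel, Units.val_one, transpose_one]⟩

theorem itr_mul_cj (A : GL (Fin n) F) : (itr * cj A : MulAut (SLn n F)) = cj (ctr A) * itr := by
  apply MulEquiv.ext
  intro g
  apply Subtype.ext
  rw [MulAut.mul_apply, MulAut.mul_apply, coe_cj, coe_itr, coe_itr, ← map_inv, coe_cj,
    transpose_mul, transpose_mul, ← mul_assoc]
  rfl

/-- The product of two graph automorphisms is inner. -/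
theorem out_mul_out (A B : GL (Fin n) F) :
    (cj A * itr) * (cj B * itr) = (cj (A * ctr B) : MulAut (SLn n F)) := by
  calc (cj A * itr) * (cj B * itr) = cj A * (itr * cj B) * itr := by simp only [mul_assoc]
    _ = cj A * (cj (ctr B) * itr) * itr := by rw [itr_mul_cj]
    _ = (cj A * cj (ctr B)) * (itr * itr) := by simp only [mul_assoc]
    _ = cj (A * ctr B) := by rw [itr_mul_itr, mul_one, map_mul]

/-! ### Sylow 2-subgroups -/

/-- The upper unitriangular group is a Sylow 2-subgroup of `SL_n(F_2)`. -/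
theorem exists_sylow_sl [Fintype F] (h2 : Fintype.card F = 2) (hn : 1 ≤ n) :
    ∃ S : Sylow 2 (SLn n F), (S : Subgroup (SLn n F)) = upper n F := by
  have hF := two_of_card h2
  have : Fact (Nat.Prime 2) := ⟨Nat.prime_two⟩
  have : CharP F 2 := by
    have h3 : (2 : F) = 0 := by rw [← one_add_one_eq_two]; exact hF.one_add_one
    exact CharTwo.of_one_ne_zero_of_two_eq_zero one_ne_zero h3
  obtain ⟨P, hP⟩ := exists_sylow (F := F) n 2
  have hcard : Nat.card (upper n F) = Nat.card P := by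
    have h3 : Nat.card ((upper n F).map pr) = Nat.card (upper n F) := Nat.card_image_of_injOn pr_injOn_upper
    rw [← h3, ← hP]
  obtain ⟨k, hk⟩ := IsPGroup.iff_card.mp P.2
  have hup : IsPGroup 2 ↥(upper n F) := IsPGroup.of_card (n := k) (by rw [hcard]; exact hk)
  obtain ⟨S, hS⟩ := hup.exists_le_sylow
  refine ⟨S, (Subgroup.eq_of_le_of_card_ge hS ?_).symm⟩
  rw [hcard]
  have h4 : Nat.card S = 2 ^ (Nat.card (SLn n F)).factorization 2 := Sylow.card_eq_multiplicity S
  have h5 : Nat.card P = 2 ^ (Nat.card (Matrix.ProjectiveSpecialLinearGroup (Fin n) F)).factorization 2 :=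
    Sylow.card_eq_multiplicity P
  have h6 : Nat.card (SLn n F) = Nat.card (Matrix.ProjectiveSpecialLinearGroup (Fin n) F) :=
    Nat.card_congr (slEquiv hF hn).toEquiv
  change Nat.card S ≤ Nat.card P
  rw [h4, h5, h6]

/-- Transvections are central in a Sylow 2-subgroup. -/
theorem tr_central [Fintype F] (h2 : Fintype.card F = 2) (hn : 2 ≤ n) {v f : Fin n → F} (hv : v ≠ 0) (hf : f ≠ 0)
    (h : f ⬝ᵥ v = 0) : ∃ S : Sylow 2 (SLn n F), ∀ s ∈ S, s * tr v f h = tr v f h * s := by
  have hF := two_of_card h2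
  obtain ⟨m, rfl⟩ : ∃ m, n = m + 2 := ⟨n - 2, by omega⟩
  have h0 : (0 : Fin (m + 2)) < Fin.last (m + 1) := Fin.last_pos
  obtain ⟨A, hA1, hA2⟩ := Cfsg.Agent.ClassicalGeometry.AutPSL.Frame.exists_gl hv hf h h0.ne
  obtain ⟨S, hS⟩ := exists_sylow_sl (n := m + 2) h2 (by omega)
  obtain ⟨g, hg⟩ := exists_conj hF A
  have h1 : tr v f h = cj A (Matrix.SpecialLinearGroup.transvection h0.ne 1) := by
    rw [transvection_eq_tr, cj_tr, tr_eq_iff, mulVec_smul, hA1, one_smul, ← hA2, vecMul_vecMul,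
      ← Units.val_mul, mul_inv_cancel, Units.val_one, vecMul_one]
  rw [hg] at h1
  refine ⟨g • S, fun s hs => ?_⟩
  have hs' : s ∈ ((g • S : Sylow 2 _) : Subgroup _) := hs
  rw [Sylow.coe_subgroup_smul, Subgroup.mem_pointwise_smul_iff_inv_smul_mem, hS] at hs'
  have h3 := central_transvection h0 (fun i => Fin.zero_le i) (fun i => Fin.le_last i) (1 : F) hs'
  have h4 : s = MulAut.conj g ((MulAut.conj g)⁻¹ • s) := ((MulAut.conj g).apply_symm_apply s).symm
  rw [h1, h4, ← map_mul, ← map_mul, h3]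

end Cfsg.Agent.OddHalf.D4.SLTwo
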