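import Mathlib
import Cfsg.Agent.OddHalf.D4.SLTwo.Model

/-!
# ODD, D4: `KP (SL_n(F_2))`, `n ≥ 5`
-/

set_option autoImplicit false
set_option linter.unusedSectionVars false

namespace Cfsg.Agent.OddHalf.D4.SLTwo

open Matrix Cfsg.Agent.ClassicalGeometry.AutPSL.Root Cfsg.Agent.ClassicalGeometry.AutPSL.Auto
  Cfsg.Agent.ClassicalGeometry.AutPSL.SylowU

variable {F : Type*} [Field F] {n : ℕ}

theorem conj_inj (hF : Two F) (hn : 1 ≤ n) {g h : SLn n F} (e : MulAut.conj g = MulAut.conj h) : g = h := by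
  have h1 : h⁻¹ * g ∈ Subgroup.center (SLn n F) := by
    rw [Subgroup.mem_center_iff]
    intro x
    have h2 := DFunLike.congr_fun e x
    rw [MulAut.conj_apply, MulAut.conj_apply] at h2
    calc x * (h⁻¹ * g) = h⁻¹ * (h * x * h⁻¹) * g := by group
      _ = h⁻¹ * (g * x * g⁻¹) * g := by rw [h2]
      _ = h⁻¹ * g * x := by group
  have h2 := eq_one_of_center hF hn h1
  have h3 : g = h * (h⁻¹ * g) := by group
  rw [h3, h2, mul_one]

/-- Rank two at least: otherwise `w` is a transvection. -/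
theorem r2_or [Fintype F] (h2 : Fintype.card F = 2) (hn : 2 ≤ n) {w : SLn n F} {Ω : Matrix (Fin n) (Fin n) F}
    (hw : (w : Matrix (Fin n) (Fin n) F) = 1 + Ω) (hΩ : Ω * Ω = 0) (hw1 : w ≠ 1)
    (hc : ∀ S : Sylow 2 (SLn n F), ∃ s ∈ S, s * w ≠ w * s) : R2 Ω := by
  by_contra hcon
  unfold R2 at hcon
  push Not at hcon
  obtain ⟨α, hα⟩ := hcon
  obtain ⟨b, hb⟩ := exists_vmv' hα
  have hb0 : b ≠ 0 := by
    rintro rfl
    rw [zero_vecMulVec] at hb
    apply hw1
    apply Subtype.ext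
    rw [hw, hb, add_zero, Matrix.SpecialLinearGroup.coe_one]
  have hα0 : α ≠ 0 := by
    rintro rfl
    rw [vecMulVec_zero] at hb
    apply hw1
    apply Subtype.ext
    rw [hw, hb, add_zero, Matrix.SpecialLinearGroup.coe_one]
  have h1 : α ⬝ᵥ b = 0 := by
    rw [hb, vmv_vmv] at hΩ
    by_contra h3
    obtain ⟨i, hi⟩ := Function.ne_iff.mp hb0
    obtain ⟨j, hj⟩ := Function.ne_iff.mp hα0
    have h4 := congrFun (congrFun hΩ i) j
    rw [Matrix.smul_apply, vecMulVec_apply, smul_eq_mul] at h4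
    rcases mul_eq_zero.mp h4 with h5 | h5
    · exact h3 h5
    · rcases mul_eq_zero.mp h5 with h6 | h6
      · exact hi h6
      · exact hj h6
  obtain ⟨S, hS⟩ := tr_central h2 hn hb0 hα0 h1
  obtain ⟨s, hs, hne⟩ := hc S
  apply hne
  have h3 : w = tr b α h1 := Subtype.ext (by rw [hw, hb, coe_tr])
  rw [h3]
  exact hS s hs

/-- An element of the form `1 + a ⊗ φ`, different from `1`, of square one is central in a Sylow 2-subgroup. -/
theorem not_tr [Fintype F] (h2 : Fintype.card F = 2) (hn : 2 ≤ n) {y : SLn n F} {a φ : Fin n → F}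
    (hy : (y : Matrix (Fin n) (Fin n) F) = 1 + vecMulVec a φ) (hyy : y * y = 1) (hy1 : y ≠ 1)
    (hc : ∀ S : Sylow 2 (SLn n F), ∃ s ∈ S, s * y ≠ y * s) : False := by
  have hF := two_of_card h2
  have h1 : (y : Matrix (Fin n) (Fin n) F) * y = 1 := by
    rw [← Matrix.SpecialLinearGroup.coe_mul, hyy, Matrix.SpecialLinearGroup.coe_one]
  have hΩ : vecMulVec a φ * vecMulVec a φ = 0 := by
    rw [hy] at h1
    have e : (1 + vecMulVec a φ) * (1 + vecMulVec a φ) = 1 + (vecMulVec a φ + vecMulVec a φ) +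
        vecMulVec a φ * vecMulVec a φ := by noncomm_ring
    rw [e, hF.madd_self, add_zero] at h1
    exact add_eq_left.mp h1
  obtain ⟨v, hv, hv'⟩ := r2_or h2 hn hy hΩ hy1 hc φ
  apply hv'
  rw [vmv_mulVec, hv, zero_smul]

/-- The case of inner `δ`. -/
theorem inner_case [Fintype F] (h2 : Fintype.card F = 2) (hn : 5 ≤ n) {w : SLn n F} {Ω : Matrix (Fin n) (Fin n) F}
    {X : Subgroup (SLn n F)} (hw : (w : Matrix (Fin n) (Fin n) F) = 1 + Ω) (hΩ : Ω * Ω = 0) (hX : XH w X)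
    (hR : R2 Ω) {x : SLn n F} (hx : Act w X x) (hxx : x * x = 1) (hx1 : x ≠ 1) (hxw : x ≠ w)
    (hcx : ∀ S : Sylow 2 (SLn n F), ∃ s ∈ S, s * x ≠ x * s)
    (hcxw : ∀ S : Sylow 2 (SLn n F), ∃ s ∈ S, s * (w * x) ≠ (w * x) * s) :
    w ∈ X ∧ w ∈ Subgroup.closure {e : SLn n F | e * w = w * e ∧ Odd (orderOf e)} ∧
      ∀ c ∈ X, Odd (orderOf c) → c = 1 := by
  have hF := two_of_card h2
  have hww : w * w = 1 := by
    apply Subtype.ext
    rw [Matrix.SpecialLinearGroup.coe_mul, Matrix.SpecialLinearGroup.coe_one, hw]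
    have e : (1 + Ω) * (1 + Ω) = 1 + (Ω + Ω) + Ω * Ω := by noncomm_ring
    rw [e, hF.madd_self, hΩ, add_zero, add_zero]
  have hΩ0 : Ω ≠ 0 := by
    rintro rfl
    obtain ⟨v, _, hv⟩ := hR 0
    exact hv (zero_mulVec v)
  obtain ⟨u, hu, hxu⟩ := exists_fix hF hw hΩ0 hx.com hxx
  obtain ⟨ξ, hξ⟩ : ∃ ξ : Matrix (Fin n) (Fin n) F, (x : Matrix (Fin n) (Fin n) F) = 1 + ξ :=
    ⟨(x : Matrix (Fin n) (Fin n) F) - 1, by abel⟩
  have hE := inE_of_fix hF hξ (fix_of_fix hF hw hΩ hX hx hu hxu)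
  have n1 : ∀ a φ, ξ ≠ vecMulVec a φ := by
    intro a φ h
    exact not_tr h2 (by omega) (by rw [hξ, h]) hxx hx1 hcx
  have n2 : ∀ a φ, ξ ≠ Ω + vecMulVec a φ := by
    intro a φ h
    apply not_tr h2 (by omega) (y := w * x) (a := a) (φ := φ) _ _ _ hcxw
    · rw [Matrix.SpecialLinearGroup.coe_mul, hw, hξ]
      have e : (1 + Ω) * (1 + ξ) = 1 + (Ω + ξ) + Ω * ξ := by noncomm_ring
      have e' : 1 + (Ω + (Ω + vecMulVec a φ)) = 1 + ((Ω + Ω) + vecMulVec a φ) := by abel
      rw [e, hE.mul_left hΩ, add_zero, h, e', hF.madd_self, zero_add]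
    · calc w * x * (w * x) = w * (x * w) * x := by group
        _ = w * (w * x) * x := by rw [hx.com]
        _ = (w * w) * (x * x) := by group
        _ = 1 := by rw [hww, hxx, one_mul]
    · intro h1
      apply hxw
      calc x = w * w * x := by rw [hww, one_mul]
        _ = w * (w * x) := by group
        _ = w := by rw [h1, mul_one]
  obtain ⟨hwX, v, z, α, β, he, αv, αz, βv, βz⟩ := main hF hw hΩ hX hR hx hξ hE n1 n2
  obtain ⟨a, a', m, l, l', μ, hfrm⟩ := exists_frm hF (by simpa using hn) hΩ hR he αv αz βv βz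
  refine ⟨hwX, mem_odd hF hw hΩ hfrm, fun c hc hodd => ?_⟩
  have hμΩ : μ ᵥ* Ω = 0 := by rw [hfrm.Ωe, vecMul_add, vecMul_vmv, vecMul_vmv, hfrm.μa, hfrm.μa']; simp
  exact no_odd hF hw hΩ hX hfrm.hm hμΩ hfrm.μm hu hc hodd

/-- The case of outer `δ` is impossible. -/
theorem outer_case (hF : Two F) (hn : 5 ≤ n) {w : SLn n F} {Ω : Matrix (Fin n) (Fin n) F}
    {X : Subgroup (SLn n F)} (hw : (w : Matrix (Fin n) (Fin n) F) = 1 + Ω) (hΩ : Ω * Ω = 0) (hX : XH w X)
    (hR : R2 Ω) {A B : Matrix (Fin n) (Fin n) F} (g : Gr w Ω X A B) : False := by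
  by_cases h3 : R3 Ω
  · exact no_graph_two hF hw hΩ hX hR h3 g
  · unfold R3 at h3
    push Not at h3
    obtain ⟨α, β, hαβ⟩ := h3
    obtain ⟨v1, hv1, hv1'⟩ := hR α
    obtain ⟨v2, hv2, hv2'⟩ := hR β
    have h1 : β ⬝ᵥ v1 = 1 := by
      rcases hF (β ⬝ᵥ v1) with h | h
      · exact absurd (hαβ v1 hv1 h) hv1'
      · exact h
    have h2 : α ⬝ᵥ v2 = 1 := by
      rcases hF (α ⬝ᵥ v2) with h | h
      · exact absurd (hαβ v2 h hv2) hv2'
      · exact h
    have he : Ω = vecMulVec (Ω *ᵥ v2) α + vecMulVec (Ω *ᵥ v1) β := by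
      apply ext_mulVec
      intro u
      have h4 := hαβ (u - (α ⬝ᵥ u) • v2 - (β ⬝ᵥ u) • v1) (by
        rw [dotProduct_sub, dotProduct_sub, dotProduct_smul, dotProduct_smul, h2, hv1]; simp) (by
        rw [dotProduct_sub, dotProduct_sub, dotProduct_smul, dotProduct_smul, h1, hv2]; simp)
      rw [mulVec_sub, mulVec_sub, mulVec_smul, mulVec_smul, sub_sub, sub_eq_zero] at h4
      rw [add_mulVec, vmv_mulVec, vmv_mulVec]
      exact h4
    obtain ⟨m, hm1, hm2, hm⟩ := exists_out (by simpa using hn) α β (Ω *ᵥ v2) (Ω *ᵥ v1)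
    obtain ⟨μ, hμ1, hμ2, hμ⟩ := exists_sep hm
    have hΩm : Ω *ᵥ m = 0 := hαβ m hm1 hm2
    have hμΩ : μ ᵥ* Ω = 0 := by
      rw [he, vecMul_add, vecMul_vmv, vecMul_vmv, hμ1, hμ2]; simp
    exact no_graph_one hF hw hΩ hX hΩm hμΩ (hF.ne_zero hμ) hv1' g

/-- **`KP (SL_n(F_2))`**, `n ≥ 5`. -/
theorem kp [Fintype F] (h2 : Fintype.card F = 2) (hn : 5 ≤ n) : KP (SLn n F) := by
  intro α β D N hC
  have hF := two_of_card h2
  have hn1 : 1 ≤ n := by omega
  -- an inner element of the four-group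
  obtain ⟨w, δ, hγ, hδ, hγδ, hγ1, hδ1, hne, hcom, hδδ, hγγ⟩ : ∃ (w : SLn n F) (δ : MulAut (SLn n F)),
      (MulAut.conj w = α ∨ MulAut.conj w = β ∨ MulAut.conj w = α * β) ∧ (δ = α ∨ δ = β ∨ δ = α * β) ∧
      (MulAut.conj w * δ = α ∨ MulAut.conj w * δ = β ∨ MulAut.conj w * δ = α * β) ∧ MulAut.conj w ≠ 1 ∧ δ ≠ 1 ∧
      δ ≠ MulAut.conj w ∧ δ * MulAut.conj w = MulAut.conj w * δ ∧ δ * δ = 1 ∧ MulAut.conj w * MulAut.conj w = 1 := by
    have hab1 : α * β ≠ 1 := by
      intro h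
      apply hC.ne
      have : β = α * (α * β) := by rw [← mul_assoc, hC.aa, one_mul]
      rw [this, h, mul_one]
    have haba : α * (α * β) = β := by rw [← mul_assoc, hC.aa, one_mul]
    have habb : β * α = α * β := hC.ab.symm
    have h3 : α * β * α = β := by rw [mul_assoc, habb, haba]
    have h4 : α * β * (α * β) = 1 := by
      rw [← mul_assoc, h3, hC.bb]
    have h5 : α ≠ α * β := by
      intro h
      apply hC.b1
      have : α * β = α * 1 := by rw [mul_one]; exact h.symm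
      exact mul_left_cancel this
    obtain ⟨A, hA | hA⟩ := aut_cases h2 (by omega) α
    · obtain ⟨w, hw⟩ := exists_conj hF A
      rw [hw] at hA
      refine ⟨w, β, Or.inl hA.symm, Or.inr (Or.inl rfl), ?_, ?_, hC.b1, ?_, ?_, hC.bb, ?_⟩
      · rw [← hA]; exact Or.inr (Or.inr rfl)
      · rw [← hA]; exact hC.a1
      · rw [← hA]; exact hC.ne.symm
      · rw [← hA]; exact hC.ab.symm
      · rw [← hA]; exact hC.aa
    · obtain ⟨B, hB | hB⟩ := aut_cases h2 (by omega) β
      · obtain ⟨w, hw⟩ := exists_conj hF B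
        rw [hw] at hB
        refine ⟨w, α, Or.inr (Or.inl hB.symm), Or.inl rfl, ?_, ?_, hC.a1, ?_, ?_, hC.aa, ?_⟩
        · rw [← hB, habb]; exact Or.inr (Or.inr rfl)
        · rw [← hB]; exact hC.b1
        · rw [← hB]; exact hC.ne
        · rw [← hB]; exact hC.ab
        · rw [← hB]; exact hC.bb
      · have hAB : α * β = cj (A * ctr B) := by rw [hA, hB, out_mul_out]
        obtain ⟨w, hw⟩ := exists_conj hF (A * ctr B)
        rw [hw] at hAB
        refine ⟨w, α, Or.inr (Or.inr hAB.symm), Or.inl rfl, ?_, ?_, hC.a1, ?_, ?_, hC.aa, ?_⟩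
        · rw [← hAB, h3]; exact Or.inr (Or.inl rfl)
        · rw [← hAB]; exact hab1
        · rw [← hAB]; exact h5
        · rw [← hAB, h3, haba]
        · rw [← hAB]; exact h4
  -- `w`
  have hw1 : w ≠ 1 := by
    rintro rfl
    exact hγ1 (map_one _)
  have hww : w * w = 1 := by
    apply conj_inj hF hn1
    rw [map_mul, map_one, hγγ]
  have hw2 : orderOf w = 2 := orderOf_eq_prime (by rw [pow_two]; exact hww) hw1
  obtain ⟨Ω, hw⟩ : ∃ Ω : Matrix (Fin n) (Fin n) F, (w : Matrix (Fin n) (Fin n) F) = 1 + Ω :=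
    ⟨(w : Matrix (Fin n) (Fin n) F) - 1, by abel⟩
  have hΩ : Ω * Ω = 0 := by
    have h1 : (w : Matrix (Fin n) (Fin n) F) * w = 1 := by
      rw [← Matrix.SpecialLinearGroup.coe_mul, hww, Matrix.SpecialLinearGroup.coe_one]
    rw [hw] at h1
    have e : (1 + Ω) * (1 + Ω) = 1 + (Ω + Ω) + Ω * Ω := by noncomm_ring
    rw [e, hF.madd_self, add_zero] at h1
    exact add_eq_left.mp h1
  have hwD : ∀ g, g * w = w * g → g ∈ D := by
    intro g hg
    apply hC.cen _ hγ
    rw [MulAut.conj_apply, ← hg]; group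
  -- `X`
  let X : Subgroup (SLn n F) := N ⊓ Subgroup.centralizer {w}
  have hXmem : ∀ x, x ∈ X ↔ x ∈ N ∧ x * w = w * x := by
    intro x
    show x ∈ N ⊓ Subgroup.centralizer {w} ↔ _
    rw [Subgroup.mem_inf, Subgroup.mem_centralizer_singleton_iff]
  have hX : XH w X := by
    refine ⟨fun x hx => ((hXmem x).mp hx).2, fun g hg x hx => ?_, fun v f h hv => ?_⟩
    · rw [hXmem] at hx ⊢
      refine ⟨hC.norm g (hwD g hg) x hx.1, ?_⟩
      have e1 : g⁻¹ * w = w * g⁻¹ := by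
        calc g⁻¹ * w = g⁻¹ * (w * g) * g⁻¹ := by group
          _ = g⁻¹ * (g * w) * g⁻¹ := by rw [hg]
          _ = w * g⁻¹ := by group
      calc g * x * g⁻¹ * w = g * x * (g⁻¹ * w) := by group
        _ = g * (x * w) * g⁻¹ := by rw [e1]; group
        _ = (g * w) * x * g⁻¹ := by rw [hx.2]; group
        _ = w * (g * x * g⁻¹) := by rw [hg]; group
    · by_contra hcon
      push Not at hcon
      obtain ⟨hv0, hf0⟩ := hcon
      have h1 := ((hXmem _).mp hv).1
      obtain ⟨S, hS⟩ := tr_central h2 (by omega) hv0 hf0 h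
      obtain ⟨s, hs, hne'⟩ := hC.noCenN _ h1 (by
        apply orderOf_eq_prime
        · rw [pow_two]
          have := mul_inv_cancel (tr v f h)
          rwa [hF.tr_inv] at this
        · intro h3
          obtain ⟨i, hi⟩ := Function.ne_iff.mp hv0
          obtain ⟨j, hj⟩ := Function.ne_iff.mp hf0
          have h4 := congrArg (fun y : SLn n F => (y : Matrix (Fin n) (Fin n) F)) h3
          simp only [coe_tr, Matrix.SpecialLinearGroup.coe_one] at h4
          have h5 := add_eq_left.mp h4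
          have h6 := congrFun (congrFun h5 i) j
          rw [vecMulVec_apply] at h6
          rcases mul_eq_zero.mp h6 with h7 | h7
          · exact hi h7
          · exact hj h7) S
      exact hne' (hS s hs)
  have hcw : ∀ y : SLn n F, (MulAut.conj y = α ∨ MulAut.conj y = β ∨ MulAut.conj y = α * β) →
      ∀ S : Sylow 2 (SLn n F), ∃ s ∈ S, s * y ≠ y * s := by
    intro y hy S
    obtain ⟨s, hs, hne'⟩ := hC.noCen _ hy S
    refine ⟨s, hs, fun h => hne' ?_⟩
    rw [MulAut.conj_apply, ← h]; group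
  have hR : R2 Ω := r2_or h2 (by omega) hw hΩ hw1 (hcw w hγ)
  have hδw : δ w = w := by
    apply conj_inj hF hn1
    apply MulEquiv.ext
    intro x
    have h1 := DFunLike.congr_fun hcom (δ.symm x)
    rw [MulAut.mul_apply, MulAut.mul_apply, MulAut.conj_apply, MulAut.conj_apply, map_mul, map_mul, map_inv] at h1
    have h2 : δ (δ.symm x) = x := δ.apply_symm_apply x
    rw [h2] at h1
    rw [MulAut.conj_apply, MulAut.conj_apply]
    exact h1
  obtain ⟨A, hA | hA⟩ := aut_cases h2 (by omega) δ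
  · obtain ⟨x, hx⟩ := exists_conj hF A
    rw [hx] at hA
    subst hA
    have hxx : x * x = 1 := by
      apply conj_inj hF hn1
      rw [map_mul, map_one, hδδ]
    have hx1 : x ≠ 1 := by
      rintro rfl
      exact hδ1 (map_one _)
    have hxw : x ≠ w := by
      rintro rfl
      exact hne rfl
    have hxcom : x * w = w * x := by
      apply conj_inj hF hn1
      rw [map_mul, map_mul, hcom]
    have hact : Act w X x := by
      refine ⟨hxcom, fun g hg => ?_⟩
      rw [hXmem]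
      have h1 := hC.comm _ hδ g (hwD g hg)
      rw [MulAut.conj_apply] at h1
      refine ⟨h1, ?_⟩
      have e1 : g⁻¹ * w = w * g⁻¹ := by
        calc g⁻¹ * w = g⁻¹ * (w * g) * g⁻¹ := by group
          _ = g⁻¹ * (g * w) * g⁻¹ := by rw [hg]
          _ = w * g⁻¹ := by group
      have e2 : x⁻¹ * w = w * x⁻¹ := by
        calc x⁻¹ * w = x⁻¹ * (w * x) * x⁻¹ := by group
          _ = x⁻¹ * (x * w) * x⁻¹ := by rw [hxcom]
          _ = w * x⁻¹ := by group
      calc x * g * x⁻¹ * g⁻¹ * w = x * g * x⁻¹ * (g⁻¹ * w) := by group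
        _ = x * g * (x⁻¹ * w) * g⁻¹ := by rw [e1]; group
        _ = x * (g * w) * x⁻¹ * g⁻¹ := by rw [e2]; group
        _ = (x * w) * g * x⁻¹ * g⁻¹ := by rw [hg]; group
        _ = w * (x * g * x⁻¹ * g⁻¹) := by rw [hxcom]; group
    obtain ⟨h3, h4, h5⟩ := inner_case h2 hn hw hΩ hX hR hact hxx hx1 hxw (hcw x hδ)
      (hcw (w * x) (by rw [map_mul]; exact hγδ))
    refine ⟨w, ((hXmem w).mp h3).1, hw2, h4, fun c hc hcw' hco => ?_⟩
    exact h5 c ((hXmem c).mpr ⟨hc, hcw'⟩) hco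
  · exfalso
    apply outer_case hF hn hw hΩ hX hR (A := (A : Matrix (Fin n) (Fin n) F))
      (B := ((A⁻¹ : GL (Fin n) F) : Matrix (Fin n) (Fin n) F))
    have hAB : (A : Matrix (Fin n) (Fin n) F) * ((A⁻¹ : GL (Fin n) F) : Matrix (Fin n) (Fin n) F) = 1 := by
      rw [← Units.val_mul, mul_inv_cancel, Units.val_one]
    have hBA : ((A⁻¹ : GL (Fin n) F) : Matrix (Fin n) (Fin n) F) * (A : Matrix (Fin n) (Fin n) F) = 1 := by
      rw [← Units.val_mul, inv_mul_cancel, Units.val_one]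
    refine ⟨hBA, hAB, ?_, ?_⟩
    · have h1 := congrArg (fun y : SLn n F => (y : Matrix (Fin n) (Fin n) F)) hδw
      simp only [hA, MulAut.mul_apply, coe_cj, coe_itr] at h1
      have hwi : w⁻¹ = w := inv_eq_of_mul_eq_one_right hww
      rw [hwi, hw, transpose_add, transpose_one] at h1
      have h3 : (A : Matrix (Fin n) (Fin n) F) * (1 + Ωᵀ) = (1 + Ω) * A := by
        calc (A : Matrix (Fin n) (Fin n) F) * (1 + Ωᵀ)
            = (A : Matrix (Fin n) (Fin n) F) * (1 + Ωᵀ) *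
              (((A⁻¹ : GL (Fin n) F) : Matrix (Fin n) (Fin n) F) * A) := by rw [hBA, mul_one]
          _ = ((A : Matrix (Fin n) (Fin n) F) * (1 + Ωᵀ) * ((A⁻¹ : GL (Fin n) F) : Matrix (Fin n) (Fin n) F)) * A := by
              simp only [mul_assoc]
          _ = (1 + Ω) * A := by rw [h1]
      rw [mul_add, mul_one, add_mul, one_mul] at h3
      exact add_left_cancel h3
    · intro v f h h' hv hf
      rw [hXmem]
      have htw := tr_comm hw h hv hf
      have h1 := hC.comm _ hδ _ (hwD _ htw)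
      have h'' : v ⬝ᵥ f = 0 := by rw [dotProduct_comm]; exact h
      rw [hA, out_tr hF A h h'', hF.tr_inv] at h1
      refine ⟨h1, ?_⟩
      have h3 : δ (tr v f h) = tr ((A : Matrix (Fin n) (Fin n) F) *ᵥ f)
          (v ᵥ* ((A⁻¹ : GL (Fin n) F) : Matrix (Fin n) (Fin n) F)) h' := by
        rw [hA, out_tr hF A h h'']
      have h4 : δ (tr v f h) * w = w * δ (tr v f h) := by
        have := congrArg δ htw
        rwa [map_mul, map_mul, hδw] at this
      rw [← h3, mul_assoc, htw, ← mul_assoc, h4, mul_assoc]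

/-- Automorphisms of odd order of `SL_n(F_2)` are inner. -/
theorem inner_of_odd [Fintype F] (h2 : Fintype.card F = 2) (hn : 3 ≤ n) (α : MulAut (SLn n F))
    (hα : Odd (orderOf α)) : ∃ k, α = MulAut.conj k := by
  have hF := two_of_card h2
  obtain ⟨A, hA | hA⟩ := aut_cases h2 hn α
  · obtain ⟨g, hg⟩ := exists_conj hF A
    exact ⟨g, hA.trans hg⟩
  · -- `α` is a power of `α²`
    obtain ⟨k, hk⟩ := hα
    have h1 : (α * α) * (α * α) ^ k = α := by
      have h3 : (α * α) * (α * α) ^ k = α ^ (2 * k + 1) * α := by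
        rw [← pow_two, ← pow_mul]
        rw [← pow_add, ← pow_succ]
        congr 1
        ring
      rw [h3, ← hk, pow_orderOf_eq_one, one_mul]
    have h3 : ∃ g : SLn n F, α * α = MulAut.conj g := by
      rw [hA, out_mul_out]
      exact exists_conj hF _
    obtain ⟨g, hg⟩ := h3
    refine ⟨g * g ^ k, ?_⟩
    rw [map_mul, map_pow, ← hg, h1]

end Cfsg.Agent.OddHalf.D4.SLTwo
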