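import Mathlib
import Cfsg.Agent.KFacts.SLRow.Facts
import Cfsg.Agent.KFacts.SLRow.Psl
import Cfsg.Agent.OddHalf.D4.Start
import Cfsg.Agent.OddHalf.D4.AutOne
import Cfsg.Agent.OddHalf.D4.SLTwo.Main

/-!
# ODD, D4: the row `L_n(2)`, `n ≥ 5`
-/

set_option autoImplicit false
set_option linter.unusedSectionVars false

namespace Cfsg.Agent.OddHalf.D4.SLTwo

open Matrix Cfsg.Agent.ClassicalGeometry.AutPSL.Root

universe u

variable {F : Type*} [Field F] {n : ℕ}

/-- "odd automorphisms are inner" along an isomorphism -/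
theorem inner_of_odd_equiv {X Y : Type*} [Group X] [Group Y] (e : X ≃* Y)
    (h : ∀ α : MulAut Y, Odd (orderOf α) → ∃ k, α = MulAut.conj k) (α : MulAut X) (hα : Odd (orderOf α)) :
    ∃ k, α = MulAut.conj k := by
  obtain ⟨k, hk⟩ := h (MulAut.congr e α) (by rwa [MulEquiv.orderOf_eq (MulAut.congr e) α])
  refine ⟨e.symm k, ?_⟩
  apply MulEquiv.ext
  intro x
  have h1 := DFunLike.congr_fun hk (e x)
  have h2 : MulAut.congr e α (e x) = e (α x) := by
    simp [MulAut.congr]
  rw [h2, MulAut.conj_apply] at h1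
  apply e.injective
  rw [h1, MulAut.conj_apply, map_mul, map_mul, map_inv, MulEquiv.apply_symm_apply]

theorem autFacts_psl [Fintype F] (h2 : Fintype.card F = 2) (hn : 4 ≤ n) :
    AutFacts (Matrix.ProjectiveSpecialLinearGroup (Fin n) F) := by
  have hc : CharP F 2 := by
    have hF := two_of_card h2
    refine CharTwo.of_one_ne_zero_of_two_eq_zero one_ne_zero ?_
    rw [← one_add_one_eq_two]
    exact hF.add_self 1
  have h := Cfsg.Agent.KFacts.SLRow.Psl.isSL_PSL' hn F
  rw [Nat.card_eq_fintype_card, h2] at h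
  exact Cfsg.Agent.KFacts.SLRow.Facts.autFacts h

/-- **row `ln2`** -/
theorem row (h1173 : Start.P1173.{u}) : Cut.Row1.{u} @Cut.Ln2 := by
  refine Start.row_of_KP h1173 ?_ ?_ ?_
  · rintro X _ _ _ ⟨F, _, _, n, h2, hn, ⟨e⟩⟩
    exact AutOne.of_equiv e (autFacts_psl h2 (by omega))
  · rintro X _ _ _ ⟨F, _, _, n, h2, hn, ⟨e⟩⟩
    exact (kp h2 hn).of_equiv (e.trans (slEquiv (two_of_card h2) (by omega)).symm)
  · rintro X _ _ _ ⟨F, _, _, n, h2, hn, ⟨e⟩⟩
    exact inner_of_odd_equiv (e.trans (slEquiv (two_of_card h2) (by omega)).symm)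
      (inner_of_odd h2 (by omega))

end Cfsg.Agent.OddHalf.D4.SLTwo
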